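import Cfsg.Prelude.Def_Spor_Conway
import Cfsg.Agent.Lib.Leech.Decomp
import Cfsg.Agent.Lib.Leech.CodeUnique
import Cfsg.Agent.Lib.Golay.Order

/-!
The centraliser of an element of order 23 in Co0 and in Co1.
-/
set_option autoImplicit false
set_option linter.style.haveILetI false

namespace Cfsg.Agent.Monster39

open Cfsg Cfsg.Agent.Leech
open scoped Pointwise

instance : Fact (Nat.Prime 23) := ⟨by norm_num⟩

theorem finiteCo0 : Finite Co0 := finite_Co0 codeUnique

theorem card_Co0 : Nat.card Co0 = 8315553613086720000 := card_Co0_of_unique codeUnique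

theorem card_Co1 : Nat.card Spor.Co1 = 4157776806543360000 := by
  have h := Subgroup.card_eq_card_quotient_mul_card_subgroup (Subgroup.center Co0)
  rw [card_Co0, card_center] at h
  exact Nat.eq_of_mul_eq_mul_right (by norm_num : 0 < 2)
    (h.symm.trans (by norm_num : (8315553613086720000 : ℕ) = 4157776806543360000 * 2))

theorem finiteCo1 : Finite Spor.Co1 := Nat.finite_of_card_ne_zero (by rw [card_Co1]; norm_num)

theorem mono_mul_mono {σ τ : M24} {c d e : Finset GolayPt} (hc : c ∈ code) (hd : d ∈ code)
    (he : e ∈ code) (h : e = symmDiff c (σ.1 • d)) :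
    mono σ hc * mono τ hd = mono (σ * τ) he := by
  subst h
  refine ext_frame fun i => Subtype.ext ?_
  rw [mul_smul, coe_mono_smul, coe_mono_smul, coe_mono_smul, signedPerm_comp]
  rfl

/-- The translation as an element of `M24`. -/
noncomputable def shiftM : M24 := ⟨Golay.shift, Golay.shift_mem⟩

/-- The translation as an automorphism of the lattice. -/
noncomputable def sh : Co0 := mono shiftM empty_mem_code

theorem shift_some (t : ZMod 23) : Golay.shift (some t) = some (t + 1) := rfl

theorem shift_none : Golay.shift none = none := rfl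

theorem shift_pow_some (n : ℕ) (t : ZMod 23) : (Golay.shift ^ n) (some t) = some (t + n) := by
  induction n generalizing t with
  | zero => simp
  | succ n ih =>
    rw [pow_succ, Equiv.Perm.mul_apply, shift_some, ih]
    congr 1; push_cast; ring

theorem mono_empty_pow (σ : M24) (n : ℕ) :
    mono σ empty_mem_code ^ n = mono (σ ^ n) empty_mem_code := by
  induction n with
  | zero =>
    refine ext_frame fun i => Subtype.ext ?_
    rw [pow_zero, one_smul, coe_mono_frame]
    simp [frame]
  | succ n ih =>
    rw [pow_succ, ih, mono_mul_mono empty_mem_code empty_mem_code empty_mem_code (by simp), pow_succ]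

theorem shiftM_pow : shiftM ^ 23 = 1 := by
  apply Subtype.ext
  apply Equiv.ext
  intro i
  rw [SubmonoidClass.coe_pow, show (shiftM : Equiv.Perm GolayPt) = Golay.shift from rfl]
  cases i with
  | none =>
    have h : ∀ n : ℕ, (Golay.shift ^ n) none = none := fun n => by
      induction n with
      | zero => rfl
      | succ n ih => rw [pow_succ, Equiv.Perm.mul_apply, shift_none, ih]
    exact h 23
  | some t =>
    rw [shift_pow_some]
    show some (t + ((23 : ℕ) : ZMod 23)) = some t
    rw [ZMod.natCast_self, add_zero]

theorem mono_one : mono (1 : M24) empty_mem_code = 1 := by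
  refine ext_frame fun i => Subtype.ext ?_
  rw [one_smul, coe_mono_frame]; simp [frame]

theorem orderOf_sh : orderOf sh = 23 := by
  refine orderOf_eq_prime (by rw [sh, mono_empty_pow, shiftM_pow, mono_one]) fun h => ?_
  rw [sh, ← mono_one] at h
  have e := congrArg (fun σ : M24 => σ.1 (some 0)) (mono_injective h).1
  simp [shiftM, shift_some] at e

theorem fixed_of_sh {w : leechLattice} (h : sh • w = w) (hn : sqNorm (w : GolayPt → ℤ) = 64) :
    w = frame none ∨ w = -frame none := by
  set f : GolayPt → ℤ := (w : GolayPt → ℤ) with hf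
  have e : ∀ i, f (Golay.shift i) = f i := by
    intro i
    have h1 := congrFun (congrArg Subtype.val h) (Golay.shift i)
    rw [sh, coe_mono_smul] at h1
    simp only [signedPerm, Finset.notMem_empty, if_false] at h1
    rw [show (shiftM : Equiv.Perm GolayPt).symm (Golay.shift i) = i from
      Equiv.symm_apply_apply Golay.shift i] at h1
    exact h1.symm
  have hconst : ∀ n : ℕ, f (some (n : ZMod 23)) = f (some 0) := by
    intro n
    induction n with
    | zero => simp
    | succ n ih => rw [← ih, ← e (some (n : ZMod 23)), shift_some]; push_cast; rfl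
  have hall : ∀ t : ZMod 23, f (some t) = f (some 0) := fun t => by
    conv_lhs => rw [← ZMod.natCast_zmod_val t]
    exact hconst _
  have hsum : f none ^ 2 + 23 * f (some 0) ^ 2 = 64 := by
    rw [← hn, sqNorm, Fintype.sum_option]
    simp only [← hf, hall, Finset.sum_const, Finset.card_univ, ZMod.card, nsmul_eq_mul]
    norm_num
  have hb : f (some 0) = 0 := by
    by_contra hb
    have h1 : 1 ≤ f (some 0) ^ 2 := by
      have := sq_pos_of_ne_zero hb; omega
    have h2 : f (some 0) ^ 2 ≤ 2 := by nlinarith [sq_nonneg (f none)]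
    have hb1 : f (some 0) ^ 2 = 1 := by
      rcases lt_or_ge (f (some 0) ^ 2) 2 with h | h
      · omega
      · exfalso
        have h3 : f (some 0) * f (some 0) = 2 := by rw [← pow_two]; omega
        have h4 : -1 ≤ f (some 0) ∧ f (some 0) ≤ 1 := by constructor <;> nlinarith
        rcases h4 with ⟨h4, h5⟩
        interval_cases (f (some 0)) <;> norm_num at h3
    rw [hb1] at hsum
    have h3 : f none * f none = 41 := by rw [← pow_two]; omega
    have h4 : -6 ≤ f none ∧ f none ≤ 6 := by constructor <;> nlinarith
    rcases h4 with ⟨h4, h5⟩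
    interval_cases (f none) <;> norm_num at h3
  rw [hb] at hsum
  have ha : f none = 8 ∨ f none = -8 := by
    have : (f none - 8) * (f none + 8) = 0 := by linarith
    rcases mul_eq_zero.1 this with h | h <;> omega
  rcases ha with ha | ha
  · left
    apply Subtype.ext
    funext i
    cases i with
    | none => simpa [frame] using ha
    | some t => simpa [frame, hb] using hall t
  · right
    apply Subtype.ext
    funext i
    cases i with
    | none => simpa [frame] using ha
    | some t => simpa [frame, hb] using hall t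

theorem pow_of_commute_sh_of_fix {g : Co0} (hg : g * sh = sh * g) (hf : g • frame none = frame none) :
    g ^ 23 = 1 := by
  obtain ⟨σ, c, hc, rfl⟩ := exists_eq_mono (stdCross_stable hf)
  obtain ⟨hσn, hcn⟩ := (mono_fix_frame_iff σ hc).1 hf
  have hmem : Golay.shift • c ∈ code := by
    have : Golay.shift • code = code := MulAction.mem_stabilizer_iff.1 Golay.shift_mem
    rw [← this]; exact Set.smul_mem_smul_set hc
  rw [sh, mono_mul_mono (σ := σ) (τ := shiftM) (e := c) hc empty_mem_code hc (by rw [Finset.smul_finset_empty]; exact (symmDiff_bot c).symm),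
    mono_mul_mono (σ := shiftM) (τ := σ) (e := Golay.shift • c) empty_mem_code hc hmem
      (by simp [shiftM]; exact (bot_symmDiff _).symm)] at hg
  obtain ⟨hσs, hcs⟩ := mono_injective hg
  have hcom : ∀ i, σ.1 (Golay.shift i) = Golay.shift (σ.1 i) := fun i =>
    congrFun (congrArg (fun τ : M24 => ⇑τ.1) hσs) i
  obtain ⟨k, hk⟩ : ∃ k, σ.1 (some 0) = some k := by
    cases hh : σ.1 (some 0) with
    | none => exact absurd (σ.1.injective (hh.trans hσn.symm)) (by simp)
    | some k => exact ⟨k, rfl⟩
  have hn : ∀ n : ℕ, σ.1 (some (n : ZMod 23)) = some ((n : ZMod 23) + k) := by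
    intro n
    induction n with
    | zero => simpa using hk
    | succ n ih =>
      have h1 := hcom (some (n : ZMod 23))
      rw [shift_some, ih, shift_some] at h1
      push_cast
      rw [h1]; congr 1; ring
  have hσ : σ = shiftM ^ k.val := by
    apply Subtype.ext
    apply Equiv.ext
    intro i
    rw [SubmonoidClass.coe_pow, show (shiftM : Equiv.Perm GolayPt) = Golay.shift from rfl]
    cases i with
    | none =>
      have h : ∀ n : ℕ, (Golay.shift ^ n) none = none := fun n => by
        induction n with
        | zero => rfl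
        | succ n ih => rw [pow_succ, Equiv.Perm.mul_apply, shift_none, ih]
      rw [h]; exact hσn
    | some t =>
      rw [shift_pow_some, ← ZMod.natCast_zmod_val t, hn, ZMod.natCast_zmod_val k]
  have hshift : ∀ i, i ∈ c → Golay.shift i ∈ c := fun i hi => by
    rw [hcs]; exact Finset.smul_mem_smul_finset hi
  have hc0 : c = ∅ := by
    by_contra hne
    obtain ⟨i, hi⟩ := Finset.nonempty_iff_ne_empty.2 hne
    obtain ⟨a, rfl⟩ : ∃ a, i = some a := by
      cases i with
      | none => exact absurd hi hcn
      | some a => exact ⟨a, rfl⟩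
    have hit : ∀ n : ℕ, some (a + (n : ZMod 23)) ∈ c := by
      intro n
      induction n with
      | zero => simpa using hi
      | succ n ih =>
        have := hshift _ ih
        rw [shift_some] at this
        push_cast
        rwa [← add_assoc]
    have hall : c = Finset.univ.erase none := by
      ext j
      simp only [Finset.mem_erase, Finset.mem_univ, and_true]
      cases j with
      | none => simp [hcn]
      | some t =>
        simp only [ne_eq, reduceCtorEq, not_false_eq_true, iff_true]
        have := hit (t - a).val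
        rwa [ZMod.natCast_zmod_val, add_sub_cancel] at this
    have hw := code_weights c hc
    rw [hall, Finset.card_erase_of_mem (Finset.mem_univ _), Finset.card_univ, card_pt] at hw
    simp at hw
  subst hc0
  rw [mono_empty_pow, hσ, ← pow_mul, mul_comm, pow_mul, shiftM_pow, one_pow, mono_one]

theorem pow_mem_center_of_commute_sh {g : Co0} (hg : g * sh = sh * g) :
    g ^ 23 ∈ Subgroup.center Co0 := by
  have hfr : sh • frame none = frame none :=
    (mono_fix_frame_iff shiftM empty_mem_code).2 ⟨shift_none, Finset.notMem_empty _⟩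
  have h : sh • (g • frame none) = g • frame none := by rw [← mul_smul, ← hg, mul_smul, hfr]
  rcases fixed_of_sh h ((sqNorm_smul g _).trans (sqNorm_frame none)) with h1 | h1
  · rw [pow_of_commute_sh_of_fix hg h1]; exact one_mem _
  · have hz : Commute negOne g := (Subgroup.mem_center_iff.1 negOne_mem_center g).symm
    have h2 : (negOne * g) * sh = sh * (negOne * g) := by
      rw [mul_assoc, hg, ← mul_assoc, ← mul_assoc, Subgroup.mem_center_iff.1 negOne_mem_center sh]
    have h3 := pow_of_commute_sh_of_fix h2 (by rw [mul_smul, h1, negOne_smul, neg_neg])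
    rw [hz.mul_pow] at h3
    rw [eq_inv_of_mul_eq_one_right h3]
    exact inv_mem (pow_mem negOne_mem_center _)

theorem not_sq_dvd_card_Co0 : ¬ 23 ^ 2 ∣ Nat.card Co0 := by rw [card_Co0]; norm_num

theorem pow_mem_center_of_commute {x g : Co0} (hx : orderOf x = 23) (hg : g * x = x * g) :
    g ^ 23 ∈ Subgroup.center Co0 := by
  haveI := finiteCo0
  have hfac : (Nat.card Co0).factorization 23 = 1 := by
    have h1 : 23 ∣ Nat.card Co0 := hx ▸ _root_.orderOf_dvd_natCard x
    have h2 := Nat.Prime.factorization_pos_of_dvd (by norm_num : Nat.Prime 23) Nat.card_pos.ne' h1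
    by_contra h3
    exact not_sq_dvd_card_Co0 ((pow_dvd_pow 23 (by omega : 2 ≤ (Nat.card Co0).factorization 23)).trans
      (Nat.ordProj_dvd _ _))
  have hcx : Nat.card (Subgroup.zpowers x) = 23 ^ (Nat.card Co0).factorization 23 := by
    rw [Nat.card_zpowers, hx, hfac, pow_one]
  have hcs : Nat.card (Subgroup.zpowers sh) = 23 ^ (Nat.card Co0).factorization 23 := by
    rw [Nat.card_zpowers, orderOf_sh, hfac, pow_one]
  obtain ⟨a, ha⟩ := MulAction.exists_smul_eq Co0 (Sylow.ofCard (Subgroup.zpowers x) hcx)
    (Sylow.ofCard (Subgroup.zpowers sh) hcs)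
  have hsmem : sh ∈ (Subgroup.zpowers x).map (MulAut.conj a).toMonoidHom := by
    have h := congrArg (fun P : Sylow 23 Co0 => (P : Subgroup Co0)) ha
    simp only [Sylow.coe_subgroup_smul] at h
    have hm : sh ∈ Subgroup.zpowers sh := Subgroup.mem_zpowers sh
    change MulAut.conj a • Subgroup.zpowers x = Subgroup.zpowers sh at h
    rw [← h] at hm
    exact hm
  obtain ⟨y, hy, hay⟩ := hsmem
  obtain ⟨j, rfl⟩ := Subgroup.mem_zpowers_iff.1 hy
  have hay' : a * x ^ j * a⁻¹ = sh := hay
  have hcom : (a * g * a⁻¹) * sh = sh * (a * g * a⁻¹) := by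
    rw [← hay']
    have : Commute g (x ^ j) := (show Commute g x from hg).zpow_right j
    calc a * g * a⁻¹ * (a * x ^ j * a⁻¹) = a * (g * x ^ j) * a⁻¹ := by group
      _ = a * (x ^ j * g) * a⁻¹ := by rw [this.eq]
      _ = _ := by group
  have h := pow_mem_center_of_commute_sh hcom
  rw [conj_pow] at h
  have h' := Subgroup.Normal.conj_mem (inferInstance : (Subgroup.center Co0).Normal) _ h a⁻¹
  simpa [mul_assoc] using h'

/-- An element of Co1 commuting with an element of order 23 has order dividing 23. -/
theorem Co1_pow_eq_one_of_commute {X Y : Spor.Co1} (hX : orderOf X = 23) (h : Y * X = X * Y) :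
    Y ^ 23 = 1 := by
  obtain ⟨x, rfl⟩ := QuotientGroup.mk_surjective X
  obtain ⟨g, rfl⟩ := QuotientGroup.mk_surjective Y
  have hx23 : x ^ 23 ∈ Subgroup.center Co0 := by
    rw [← QuotientGroup.eq_one_iff, QuotientGroup.mk_pow, ← hX, pow_orderOf_eq_one]
  have hc2 : ∀ c ∈ Subgroup.center Co0, c ^ 2 = 1 := by
    intro c hc
    have := congrArg Subtype.val (pow_card_eq_one' (x := (⟨c, hc⟩ : Subgroup.center Co0)))
    rwa [card_center, SubmonoidClass.coe_pow] at this
  set y := x ^ 2 with hy
  have hy23 : y ^ 23 = 1 := by rw [hy, ← pow_mul, mul_comm, pow_mul, hc2 _ hx23]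
  have hord : orderOf y = 23 := by
    refine orderOf_eq_prime hy23 fun e => ?_
    have h2 : (QuotientGroup.mk x : Spor.Co1) ^ 2 = 1 := by
      rw [← QuotientGroup.mk_pow, ← hy, e, QuotientGroup.mk_one]
    have := orderOf_dvd_of_pow_eq_one h2
    rw [hX] at this
    omega
  obtain ⟨c, hc, hgc⟩ : ∃ c ∈ Subgroup.center Co0, g * y = y * g * c := by
    refine ⟨(y * g)⁻¹ * (g * y), ?_, (mul_inv_cancel_left _ _).symm⟩
    rw [← QuotientGroup.eq, QuotientGroup.mk_mul, QuotientGroup.mk_mul, hy, QuotientGroup.mk_pow]
    exact ((show Commute (QuotientGroup.mk g : Spor.Co1) (QuotientGroup.mk x) from h).pow_right 2).symm.eq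
  have hcy : Commute y c := Subgroup.mem_center_iff.1 hc y
  have hconj : g * y * g⁻¹ = y * c := by
    rw [hgc, mul_assoc (y * g) c, ← Subgroup.mem_center_iff.1 hc g⁻¹]; group
  have hc23 : c ^ 23 = 1 := by
    have := congrArg (fun u => u ^ 23) hconj
    simp only [conj_pow, hy23, mul_one, mul_inv_cancel, hcy.mul_pow, one_mul] at this
    exact this.symm
  have hc1 : c = 1 := by
    have e : c ^ 23 = (c ^ 2) ^ 11 * c := by rw [← pow_mul, ← pow_succ]
    rw [hc23, hc2 c hc, one_pow, one_mul] at e
    exact e.symm
  rw [hc1, mul_one] at hgc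
  rw [← QuotientGroup.mk_pow, QuotientGroup.eq_one_iff]
  exact pow_mem_center_of_commute hord hgc

end Cfsg.Agent.Monster39
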