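import Cfsg.Agent.Monster39.Fusion

/-!
The stabilizer of a class of squared length 64: a split extension by the Mathieu group.
-/
set_option autoImplicit false
set_option linter.style.haveILetI false
set_option linter.unusedSectionVars false

namespace Cfsg.Agent.Monster39

open Cfsg Cfsg.Agent.Leech
open scoped Pointwise

/-- The permutation automorphisms. -/
noncomputable def permHom : M24 →* Co0 :=
  MonoidHom.mk' (fun σ => mono σ empty_mem_code) fun σ τ =>
    (mono_mul_mono empty_mem_code empty_mem_code empty_mem_code (by simp)).symm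

theorem permHom_mem_center {σ : M24} (h : permHom σ ∈ Subgroup.center Co0) : σ = 1 := by
  rcases center_eq_or _ h with h | h
  · rw [← mono_one] at h
    exact (mono_injective h).1
  · exact (mono_injective (h : mono σ empty_mem_code = mono 1 univ_mem_code)).1

/-- The images in Co1 of the permutation automorphisms, moved by `a`. -/
noncomputable def mathieuHom (a : Co0) : M24 →* Spor.Co1 :=
  (QuotientGroup.mk' (Subgroup.center Co0)).comp
    (((MulAut.conj a⁻¹).toMonoidHom).comp permHom)

theorem mathieuHom_injective (a : Co0) : Function.Injective (mathieuHom a) := by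
  rw [injective_iff_map_eq_one]
  intro σ h
  have h1 : a⁻¹ * permHom σ * (a⁻¹)⁻¹ ∈ Subgroup.center Co0 := (QuotientGroup.eq_one_iff _).1 h
  have h2 := (inferInstance : (Subgroup.center Co0).Normal).conj_mem _ h1 a
  refine permHom_mem_center ?_
  simpa [mul_assoc] using h2

theorem orderOf_shiftM : orderOf shiftM = 23 := by
  have h : permHom shiftM = sh := rfl
  rw [← orderOf_injective permHom (fun σ τ h => (mono_injective h).1) shiftM, h, orderOf_sh]

/-- A subgroup of order 2^11 normalized by a copy of the Mathieu group meets it trivially. -/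
theorem inf_range_eq_bot {T : Subgroup Spor.Co1} {a : Co0} (hT : Nat.card T = 2 ^ 11)
    (hn : ∀ k ∈ (mathieuHom a).range, ∀ t ∈ T, k * t * k⁻¹ ∈ T) :
    T ⊓ (mathieuHom a).range = ⊥ := by
  haveI := finiteCo1
  have hd : Nat.card (T ⊓ (mathieuHom a).range : Subgroup Spor.Co1) ∣ 2 ^ 11 :=
    hT ▸ Subgroup.card_dvd_of_le inf_le_left
  obtain ⟨j, hj11, hj⟩ := (Nat.dvd_prime_pow Nat.prime_two).1 hd
  have hj10 : j ≤ 10 := by
    by_contra hcon
    have hc : Nat.card (mathieuHom a).range = 244823040 := by
      exact (Nat.card_congr (MonoidHom.ofInjective (mathieuHom_injective a)).toEquiv).symm.trans Golay.card_M24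
    have h1 : 2 ^ 11 ∣ 244823040 := by
      rw [← hc]
      exact (pow_dvd_pow 2 (show 11 ≤ j by omega)).trans (hj ▸ Subgroup.card_dvd_of_le inf_le_right)
    norm_num at h1
  have hX : orderOf (mathieuHom a shiftM) = 23 := by
    rw [orderOf_injective _ (mathieuHom_injective a), orderOf_shiftM]
  have hmod := card_mod_of_invariant hX (H := T ⊓ (mathieuHom a).range) (fun t ht => by
      obtain ⟨h1, h2⟩ := Subgroup.mem_inf.1 ht
      exact Subgroup.mem_inf.2 ⟨hn _ ⟨shiftM, rfl⟩ t h1,
        mul_mem (mul_mem ⟨shiftM, rfl⟩ h2) (inv_mem ⟨shiftM, rfl⟩)⟩) (by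
      intro h
      have := (h.trans hd)
      norm_num at this)
  rw [hj] at hmod
  refine Subgroup.eq_bot_of_card_eq _ ?_
  rw [hj]
  interval_cases j <;> simp_all

theorem cong_frame (i : GolayPt) : Cong (frame none : GolayPt → ℤ) (frame i : GolayPt → ℤ) :=
  (stdCross_subset _ ⟨i, 8, Or.inl rfl, rfl⟩).2.2

variable {G : Type*} [Group G] [Finite G] {z : G}
  {Q : Subgroup (Subgroup.centralizer ({z} : Set G))} [Q.Normal]
  {e : (Subgroup.centralizer ({z} : Set G)) ⧸ Q ≃* Spor.Co1}
  {ψ : leechLattice → Q ⧸ Subgroup.center Q}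

namespace Setting

variable (M : Setting z Q e ψ)
include M

theorem exists_mathieu {x : Q} (hx : Cls ψ 64 x) :
    ∃ a : Co0, (mathieuHom a).range ≤
      (Subgroup.centralizer ({(x : Subgroup.centralizer ({z} : Set G))} :
        Set (Subgroup.centralizer ({z} : Set G)))).map (proj e) := by
  have hxc := M.not_mem_center (by norm_num) (by norm_num) hx
  obtain ⟨v, hv, e1⟩ := hx
  obtain ⟨a, ha⟩ := transitive_64 codeUnique hv (sqNorm_frame none)
  refine ⟨a, ?_⟩
  rintro _ ⟨σ, rfl⟩
  have hgv : ψ ((a⁻¹ * permHom σ * (a⁻¹)⁻¹) • v) = QuotientGroup.mk x := by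
    rw [← e1, M.map_eq_iff, mul_smul, mul_smul, inv_inv, ha]
    have h := cong_smul a⁻¹ (v := mono σ empty_mem_code • frame none) (w := frame none) ?_
    · have e2 : a⁻¹ • frame none = v := by rw [← ha, inv_smul_smul]
      rw [e2] at h
      exact h
    · refine Cong.symm ?_
      have e3 : ((mono σ empty_mem_code • frame none : leechLattice) : GolayPt → ℤ) =
          (frame (σ.1 none) : GolayPt → ℤ) := by
        rw [coe_mono_frame]; simp [frame]
      rw [e3]
      exact cong_frame _
  obtain ⟨h, hh, hfix⟩ := M.conj_of_smul hxc e1 hgv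
  refine ⟨h, ?_, hh⟩
  have h' : h * x * h⁻¹ = (x : Subgroup.centralizer ({z} : Set G)) := congrArg Subtype.val hfix
  exact Subgroup.mem_centralizer_singleton_iff.2 (mul_inv_eq_iff_eq_mul.1 h')

theorem card_stabilizer {x : Q} (hx : Cls ψ 64 x) :
    Nat.card ((Subgroup.centralizer ({(x : Subgroup.centralizer ({z} : Set G))} :
        Set (Subgroup.centralizer ({z} : Set G)))).map (proj e)) = 2 ^ 11 * 244823040 := by
  have h1 := M.card_cent (by norm_num) hx
  rw [← M.card_proj_cent (M.not_mem_center (by norm_num) (by norm_num) hx), M.ncard_cls.2.2, card_Co1] at h1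
  omega

theorem complement {x : Q} {g : G} (hg : g * z * g⁻¹ = ((x : Subgroup.centralizer ({z} : Set G)) : G))
    (hne : x ≠ M.zQ) : ∃ K : Subgroup Spor.Co1,
      K ≤ (Subgroup.centralizer ({(x : Subgroup.centralizer ({z} : Set G))} :
        Set (Subgroup.centralizer ({z} : Set G)))).map (proj e) ∧
      (conjPart Q g).map (proj e) ⊓ K = ⊥ ∧
      (conjPart Q g).map (proj e) ⊔ K = (Subgroup.centralizer ({(x : Subgroup.centralizer ({z} : Set G))} :
        Set (Subgroup.centralizer ({z} : Set G)))).map (proj e) ∧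
      Nonempty (K ≃* M24) := by
  haveI := finiteCo1
  have F := M.fused hg hne
  obtain ⟨a, ha⟩ := M.exists_mathieu F.cls
  have hdis := inf_range_eq_bot F.card_image fun k hk t ht => M.image_normal hg k (ha hk) t ht
  refine ⟨_, ha, hdis, ?_, ⟨(MonoidHom.ofInjective (mathieuHom_injective a)).symm⟩⟩
  refine Subgroup.eq_of_le_of_card_ge (sup_le (Subgroup.map_mono F.le) ha) ?_
  rw [M.card_stabilizer F.cls, ← F.card_image, ← Golay.card_M24,
    Nat.card_congr (MonoidHom.ofInjective (mathieuHom_injective a)).toEquiv, ← Nat.card_prod]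
  refine Nat.card_le_card_of_injective (fun p => (⟨p.1 * p.2, Subgroup.mul_mem_sup p.1.2 p.2.2⟩ :
    ↥((conjPart Q g).map (proj e) ⊔ (mathieuHom a).range))) fun p q h => ?_
  exact Subgroup.mul_injective_of_disjoint (disjoint_iff.2 hdis) (congrArg Subtype.val h)

end Setting

end Cfsg.Agent.Monster39
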