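import Cfsg.Agent.Monster39.Forms
import Cfsg.Agent.Lib.Leech.Simplicity
import Cfsg.Agent.Lib.LargeExtraspecial.Sections

/-!
The centralizer of an involution of the second kind in a group of Monster type is of Baby Monster type
modulo that involution.
-/
set_option autoImplicit false
set_option linter.style.haveILetI false
set_option linter.unusedSectionVars false

namespace Cfsg.Agent.Monster39

open Cfsg
open scoped Pointwise commutatorElement

/-- A criterion for the generalized Fitting subgroup. -/
theorem generalizedFitting_eq_of_quot {D : Type*} [Group D] [Finite D] {R : Subgroup D} [R.Normal]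
    (hnil : Group.IsNilpotent R) (hs : IsSimpleGroup (D ⧸ R)) (hns : ¬ Group.IsSolvable (D ⧸ R))
    (hC : Subgroup.centralizer (R : Set D) ≤ R) : generalizedFittingSubgroup D = R := by
  haveI := hs
  have hR : R ≤ fittingSubgroup D := Fitting.le_fitting inferInstance hnil
  have hF : fittingSubgroup D ≤ R := by
    haveI : Group.IsNilpotent (fittingSubgroup D) := Fitting.fitting_isNilpotent
    haveI : (fittingSubgroup D).Normal := Fitting.fitting_normal
    rcases IsSimpleGroup.eq_bot_or_eq_top_of_normal _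
      ((inferInstance : (fittingSubgroup D).Normal).map (QuotientGroup.mk' R) (QuotientGroup.mk'_surjective R)) with h | h
    · intro x hx
      rw [← QuotientGroup.eq_one_iff]
      have : QuotientGroup.mk' R x ∈ (fittingSubgroup D).map (QuotientGroup.mk' R) := ⟨x, hx, rfl⟩
      rw [h, Subgroup.mem_bot] at this
      exact this
    · exfalso
      apply hns
      haveI : Group.IsNilpotent ((fittingSubgroup D).map (QuotientGroup.mk' R)) :=
        Fitting.isNilpotent_map _ Fitting.fitting_isNilpotent
      rw [h] at this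
      haveI : Group.IsNilpotent (D ⧸ R) := Group.isNilpotent_top.1 this
      infer_instance
  have hFR : fittingSubgroup D = R := le_antisymm hF hR
  rw [generalizedFittingSubgroup, hFR, sup_eq_right]
  refine Components.layer_le_centralizer_fitting.trans ?_
  rw [hFR]
  exact hC

variable {G : Type*} [Group G] [Finite G] {z : G}
  {Q : Subgroup (Subgroup.centralizer ({z} : Set G))} [Q.Normal]
  {e : (Subgroup.centralizer ({z} : Set G)) ⧸ Q ≃* Spor.Co1}
  {ψ : leechLattice → Q ⧸ Subgroup.center Q}

/-- Co2 in Co1. -/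
noncomputable def co2Hom : Spor.Co2 →* Spor.Co1 :=
  (QuotientGroup.mk' (Subgroup.center Co0)).comp (Subgroup.inclusion inf_le_left)

theorem co2_smul (g : Spor.Co2) (x : leechLattice) :
    (Subgroup.inclusion inf_le_left g : Co0) • x = g • x := rfl

theorem sqNorm_leechU : sqNorm (Spor.leechU : GolayPt → ℤ) = 32 := by
  show sqNorm Spor.vecU = 32
  decide

theorem co2Hom_injective : Function.Injective co2Hom := by
  rw [injective_iff_map_eq_one]
  intro g hg
  have h1 : (Subgroup.inclusion inf_le_left g : Co0) ∈ Subgroup.center Co0 := (QuotientGroup.eq_one_iff _).1 hg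
  rcases Leech.center_eq_or _ h1 with h | h
  · exact Subgroup.inclusion_injective _ (h.trans (map_one _).symm)
  · exfalso
    refine Leech.negOne_not_mem_stab (v := Spor.leechU) (by rw [sqNorm_leechU]; norm_num) ?_
    rw [← h]
    exact g.2.2

theorem co2_isSimple : IsSimpleGroup Spor.Co2 ∧ Nat.card Spor.Co2 = 42305421312000 := by
  have h := Leech.isCo2_stab sqNorm_leechU
  let i : MulAction.stabilizer Co0 Spor.leechU ≃* Spor.Co2 :=
    { toFun := fun g => ⟨(g : Co0).1, (g : Co0).2, g.2⟩
      invFun := fun g => ⟨⟨g.1, g.2.1⟩, g.2.2⟩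
      left_inv := fun _ => rfl
      right_inv := fun _ => rfl
      map_mul' := fun _ _ => rfl }
  haveI := h.1
  haveI : Nontrivial Spor.Co2 := i.injective.nontrivial
  exact ⟨IsSimpleGroup.isSimpleGroup_of_surjective i.toMonoidHom i.surjective,
    (Nat.card_congr i.toEquiv).symm.trans h.2⟩

theorem co2_not_solvable : ¬ Group.IsSolvable Spor.Co2 := by
  intro h
  haveI := h
  haveI := co2_isSimple.1
  haveI : Finite Spor.Co2 := Nat.finite_of_card_ne_zero (by rw [co2_isSimple.2]; norm_num)
  letI : CommGroup Spor.Co2 := { (inferInstance : Group Spor.Co2) with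
    mul_comm := IsSimpleGroup.comm_iff_isSolvable.2 h }
  have hp := (IsSimpleGroup.prime_card (α := Spor.Co2))
  rw [co2_isSimple.2] at hp
  exact (by norm_num : ¬ Nat.Prime 42305421312000) hp

namespace Setting

variable (M : Setting z Q e ψ) (t : Q) (ht2 : t * t = 1) (htu : ψ Spor.leechU = QuotientGroup.mk t)

/-- The centralizer of `t` in the centralizer of `z`. -/
abbrev centC (t : Q) : Subgroup (Subgroup.centralizer ({z} : Set G)) :=
  Subgroup.centralizer ({(t : Subgroup.centralizer ({z} : Set G))} : Set (Subgroup.centralizer ({z} : Set G)))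

/-- The centralizer of `t` in `Q`. -/
abbrev centA (t : Q) : Subgroup Q := Subgroup.centralizer ({t} : Set Q)

/-- The inclusion of the centralizers. -/
def incA (t : Q) : centA t →* centC t :=
  MonoidHom.mk' (fun q => ⟨((q : Q) : Subgroup.centralizer ({z} : Set G)),
    Subgroup.mem_centralizer_singleton_iff.2
      (congrArg Subtype.val (Subgroup.mem_centralizer_singleton_iff.1 q.2))⟩) fun _ _ => rfl

include M ht2 htu

theorem tG_order : orderOf ((t : Subgroup.centralizer ({z} : Set G)) : G) = 2 := by
  have hc : t ∉ Subgroup.center Q := M.not_mem_center (by norm_num) (by norm_num) ⟨_, sqNorm_leechU, htu⟩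
  refine orderOf_eq_prime ?_ fun h => hc (M.mem_center_iff.2 (Or.inl (Subtype.ext (Subtype.ext h))))
  rw [pow_two]
  exact congrArg (fun q : Q => ((q : Subgroup.centralizer ({z} : Set G)) : G)) ht2

theorem cls_32 : Cls ψ 32 t := ⟨_, sqNorm_leechU, htu⟩

theorem mem_zpowers_t {u : G} :
    u ∈ Subgroup.zpowers ((t : Subgroup.centralizer ({z} : Set G)) : G) ↔
      u = 1 ∨ u = ((t : Subgroup.centralizer ({z} : Set G)) : G) := by
  constructor
  · intro h
    obtain ⟨k, rfl⟩ := Subgroup.mem_zpowers_iff.1 h
    have h2 : ((t : Subgroup.centralizer ({z} : Set G)) : G) ^ 2 = 1 := by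
      rw [← M.tG_order t ht2 htu]; exact pow_orderOf_eq_one _
    rcases Int.even_or_odd' k with ⟨j, rfl | rfl⟩
    · left; rw [zpow_mul, zpow_two, ← pow_two, h2, one_zpow]
    · right; rw [zpow_add, zpow_mul, zpow_two, ← pow_two, h2, one_zpow, one_mul, zpow_one]
  · rintro (rfl | rfl)
    · exact one_mem _
    · exact Subgroup.mem_zpowers _

theorem exists_lift_co2 (c : centC t) :
    proj e (c : Subgroup.centralizer ({z} : Set G)) ∈ co2Hom.range := by
  obtain ⟨g, hg⟩ := QuotientGroup.mk_surjective (proj e (c : Subgroup.centralizer ({z} : Set G)))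
  have h1 := M.hψ.2.2.2 c g hg Spor.leechU t htu
  have hc : cj (c : Subgroup.centralizer ({z} : Set G)) t = t :=
    Subtype.ext (mul_inv_eq_iff_eq_mul.2 (Subgroup.mem_centralizer_singleton_iff.1 c.2))
  change ψ (g • Spor.leechU) = QuotientGroup.mk (cj (c : Subgroup.centralizer ({z} : Set G)) t) at h1
  rw [hc, ← htu, M.map_eq_iff] at h1
  have hn : sqNorm ((g • Spor.leechU : leechLattice) : GolayPt → ℤ) = 32 :=
    (Leech.sqNorm_smul g _).trans sqNorm_leechU
  rcases Leech.cong_cases Leech.noRoots (SetLike.coe_mem _) (by omega)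
    (by rw [sqNorm_leechU]; norm_num) h1 with h | h | ⟨h, -⟩
  · exact ⟨⟨g.1, g.2, Subtype.ext h⟩, hg⟩
  · have hfix : (Leech.negOne * g) • Spor.leechU = Spor.leechU := by
      rw [mul_smul, Leech.negOne_smul]
      apply Subtype.ext
      rw [AddSubgroup.coe_neg, h, neg_neg]
    refine ⟨⟨(Leech.negOne * g).1, (Leech.negOne * g).2, hfix⟩, ?_⟩
    show (QuotientGroup.mk (Leech.negOne * g) : Spor.Co1) = _
    rw [QuotientGroup.mk_mul, (QuotientGroup.eq_one_iff _).2 Leech.negOne_mem_center, one_mul, hg]
  · omega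

theorem commute_iff_perp (q : Q) {x : leechLattice} (hx : ψ x = QuotientGroup.mk q) :
    q ∈ centA t ↔ x ∈ leechPerpU := by
  rw [centA, Subgroup.mem_centralizer_singleton_iff, M.commute_iff (M.cls_32 t ht2 htu) ht2 hx htu]
  rfl

theorem center_centA {q : centA t} (hq : ∀ r : centA t, q * r = r * q) :
    (q : Q) = 1 ∨ (q : Q) = M.zQ ∨ (q : Q) = t ∨ (q : Q) = t * M.zQ := by
  classical
  have htc : t ∉ Subgroup.center Q := M.not_mem_center (by norm_num) (by norm_num) (M.cls_32 t ht2 htu)
  by_cases hqc : (q : Q) ∈ Subgroup.center Q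
  · rcases M.mem_center_iff.1 hqc with h | h
    · exact Or.inl h
    · exact Or.inr (Or.inl h)
  have heq : Subgroup.centralizer ({(q : Q)} : Set Q) = centA t := by
    symm
    refine Subgroup.eq_of_le_of_card_ge (fun r hr => Subgroup.mem_centralizer_singleton_iff.2
      (congrArg Subtype.val (hq ⟨r, hr⟩)).symm) ?_
    rw [M.card_centQ hqc, M.card_centQ htc]
  have hcen : (q : Q) * t ∈ Subgroup.center Q := by
    refine Subgroup.mem_center_iff.2 fun r => ?_
    by_cases hr : r ∈ centA t
    · have h1 : r * q = q * r := Subgroup.mem_centralizer_singleton_iff.1 (heq.symm ▸ hr)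
      have h2 : r * t = t * r := Subgroup.mem_centralizer_singleton_iff.1 hr
      rw [← mul_assoc, h1, mul_assoc, h2, ← mul_assoc]
    · have hr' : r ∉ Subgroup.centralizer ({(q : Q)} : Set Q) := heq.symm ▸ hr
      have h1 := M.qdata.commute_or (mt Subgroup.mem_centralizer_singleton_iff.2 hr')
      have h2 := M.qdata.commute_or (mt Subgroup.mem_centralizer_singleton_iff.2 hr)
      calc r * ((q : Q) * t) = r * q * t := by group
        _ = q * r * M.zQ * t := by rw [h1]
        _ = q * r * (M.zQ * t) := by group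
        _ = q * (r * t) * M.zQ := by rw [← M.zQ_central t]; group
        _ = q * (t * r * M.zQ) * M.zQ := by rw [h2]
        _ = q * t * r * (M.zQ * M.zQ) := by group
        _ = _ := by rw [M.zQ_sq, mul_one]
  have hqe : (q : Q) = (q : Q) * t * t := by rw [mul_assoc, ht2, mul_one]
  rcases M.mem_center_iff.1 hcen with h | h <;> rw [h] at hqe
  · exact Or.inr (Or.inr (Or.inl (hqe.trans (one_mul t))))
  · exact Or.inr (Or.inr (Or.inr (hqe.trans (M.zQ_central t).symm)))

set_option maxHeartbeats 1600000 in
/-- Centralizing `t` modulo `t` is of Baby Monster type. -/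
theorem baby
    [hn : ((Subgroup.zpowers ((t : Subgroup.centralizer ({z} : Set G)) : G)).subgroupOf
      (Subgroup.centralizer ({((t : Subgroup.centralizer ({z} : Set G)) : G)} : Set G))).Normal] :
    IsOfBabyMonsterType (↥(Subgroup.centralizer ({((t : Subgroup.centralizer ({z} : Set G)) : G)} : Set G)) ⧸
      (Subgroup.zpowers ((t : Subgroup.centralizer ({z} : Set G)) : G)).subgroupOf
        (Subgroup.centralizer ({((t : Subgroup.centralizer ({z} : Set G)) : G)} : Set G))) := by
  classical
  set tG : G := ((t : Subgroup.centralizer ({z} : Set G)) : G) with htG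
  set H := Subgroup.centralizer ({tG} : Set G) with hH
  set N := (Subgroup.zpowers tG).subgroupOf H with hN
  have hpow := fun u => M.mem_zpowers_t t ht2 htu (u := u)
  have htord := M.tG_order t ht2 htu
  have ht32 := M.cls_32 t ht2 htu
  have htc : t ∉ Subgroup.center Q := M.not_mem_center (by norm_num) (by norm_num) ht32
  let ι : centC t →* H := MonoidHom.mk'
    (fun c => ⟨((c : Subgroup.centralizer ({z} : Set G)) : G), Subgroup.mem_centralizer_singleton_iff.2
      (congrArg Subtype.val (Subgroup.mem_centralizer_singleton_iff.1 c.2))⟩) fun _ _ => rfl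
  have hzH : z ∈ H := Subgroup.mem_centralizer_singleton_iff.2
    (Subgroup.mem_centralizer_singleton_iff.1 (t : Subgroup.centralizer ({z} : Set G)).2).symm
  let z' : H ⧸ N := QuotientGroup.mk ⟨z, hzH⟩
  have hmkN : ∀ a b : H, (QuotientGroup.mk a : H ⧸ N) = QuotientGroup.mk b ↔
      (b : G) = a ∨ (b : G) = a * tG := by
    intro a b
    rw [QuotientGroup.eq, hN, Subgroup.mem_subgroupOf, hpow]
    simp only [Subgroup.coe_mul, InvMemClass.coe_inv]
    rw [inv_mul_eq_one, inv_mul_eq_iff_eq_mul]
    exact or_congr eq_comm Iff.rfl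
  have hφmem : ∀ c : centC t, (QuotientGroup.mk (ι c) : H ⧸ N) ∈ Subgroup.centralizer ({z'} : Set (H ⧸ N)) := by
    intro c
    rw [Subgroup.mem_centralizer_singleton_iff, ← QuotientGroup.mk_mul, ← QuotientGroup.mk_mul]
    congr 1
    exact Subtype.ext (Subgroup.mem_centralizer_singleton_iff.1 (c : Subgroup.centralizer ({z} : Set G)).2)
  let φ : centC t →* Subgroup.centralizer ({z'} : Set (H ⧸ N)) :=
    ((QuotientGroup.mk' N).comp ι).codRestrict _ hφmem
  have hφeq : ∀ c d : centC t, φ c = φ d ↔ ((d : Subgroup.centralizer ({z} : Set G)) : G) = ((c : Subgroup.centralizer ({z} : Set G)) : G) ∨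
      ((d : Subgroup.centralizer ({z} : Set G)) : G) = ((c : Subgroup.centralizer ({z} : Set G)) : G) * tG := by
    intro c d
    rw [Subtype.ext_iff]
    exact hmkN (ι c) (ι d)
  have hφsurj : Function.Surjective φ := by
    rintro ⟨d, hd⟩
    obtain ⟨h, rfl⟩ := QuotientGroup.mk_surjective d
    rw [Subgroup.mem_centralizer_singleton_iff, ← QuotientGroup.mk_mul, ← QuotientGroup.mk_mul] at hd
    have hcz : (h : G) * z = z * h := by
      rcases (hmkN _ _).1 hd with h1 | h1
      · exact h1.symm
      · exfalso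
        simp only [Subgroup.coe_mul] at h1
        have hth : tG * (h : G) = h * tG := (Subgroup.mem_centralizer_singleton_iff.1 h.2).symm
        refine M.not_conj_of_32 (q := M.zQ * t) ?_ (isConj_iff.2 ⟨(h : G)⁻¹, ?_⟩)
        · obtain ⟨v, hv, hvt⟩ := ht32
          exact ⟨v, hv, hvt.trans (M.mk_eq_mk.2 (Or.inr (M.zQ_central t).symm))⟩
        · show (h : G)⁻¹ * z * (h : G)⁻¹⁻¹ = z * tG
          rw [inv_inv, mul_assoc, h1, ← mul_assoc, ← mul_assoc, inv_mul_cancel, one_mul]
    refine ⟨⟨⟨h, Subgroup.mem_centralizer_singleton_iff.2 hcz⟩, Subgroup.mem_centralizer_singleton_iff.2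
      (Subtype.ext (Subgroup.mem_centralizer_singleton_iff.1 h.2))⟩, rfl⟩
  let θ : centC t →* co2Hom.range :=
    ((proj e).comp (centC t).subtype).codRestrict _ (M.exists_lift_co2 t ht2 htu)
  let Θ : centC t →* Spor.Co2 := (MonoidHom.ofInjective co2Hom_injective).symm.toMonoidHom.comp θ
  have hΘ : ∀ c : centC t, co2Hom (Θ c) = proj e (c : Subgroup.centralizer ({z} : Set G)) := fun c =>
    congrArg Subtype.val ((MonoidHom.ofInjective co2Hom_injective).apply_symm_apply (θ c))
  have hΘ1 : ∀ c : centC t, Θ c = 1 ↔ (c : Subgroup.centralizer ({z} : Set G)) ∈ Q := fun c => by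
    rw [← proj_eq_one (e := e), ← hΘ, map_eq_one_iff _ co2Hom_injective]
  have hΘsurj : Function.Surjective Θ := by
    intro g
    have hgu : (Subgroup.inclusion inf_le_left g : Co0) • Spor.leechU = Spor.leechU := g.2.2
    obtain ⟨c, hc, hct⟩ := M.conj_of_smul htc htu (g := Subgroup.inclusion inf_le_left g) (y := t)
      (by rw [hgu, htu])
    refine ⟨⟨c, Subgroup.mem_centralizer_singleton_iff.2 (mul_inv_eq_iff_eq_mul.1 (congrArg Subtype.val hct))⟩, ?_⟩
    apply co2Hom_injective
    rw [hΘ]
    exact hc
  have hker : φ.ker ≤ Θ.ker := by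
    intro c hc
    rw [MonoidHom.mem_ker, ← map_one φ, hφeq] at hc
    rw [MonoidHom.mem_ker, hΘ1]
    rcases hc with h | h
    · rw [show (c : Subgroup.centralizer ({z} : Set G)) = 1 from Subtype.ext h.symm]; exact one_mem Q
    · have : (c : Subgroup.centralizer ({z} : Set G)) = (t : Subgroup.centralizer ({z} : Set G))⁻¹ :=
        Subtype.ext (eq_inv_of_mul_eq_one_left h.symm)
      rw [this]; exact inv_mem t.2
  let Θ' : Subgroup.centralizer ({z'} : Set (H ⧸ N)) →* Spor.Co2 :=
    (QuotientGroup.lift φ.ker Θ hker).comp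
      (QuotientGroup.quotientKerEquivOfSurjective φ hφsurj).symm.toMonoidHom
  have hΘ' : ∀ c, Θ' (φ c) = Θ c := by
    intro c
    have : (QuotientGroup.quotientKerEquivOfSurjective φ hφsurj).symm (φ c) = QuotientGroup.mk c :=
      (MulEquiv.symm_apply_eq _).2 rfl
    show QuotientGroup.lift φ.ker Θ hker ((QuotientGroup.quotientKerEquivOfSurjective φ hφsurj).symm (φ c)) = _
    rw [this]
    rfl
  let χ : centA t →* Subgroup.centralizer ({z'} : Set (H ⧸ N)) := φ.comp (incA t)
  set R := χ.range with hR
  have hΘ'surj : Function.Surjective Θ' := fun g => by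
    obtain ⟨c, rfl⟩ := hΘsurj g
    exact ⟨φ c, hΘ' c⟩
  have hRker : R = Θ'.ker := by
    ext d
    obtain ⟨c, rfl⟩ := hφsurj d
    rw [MonoidHom.mem_ker, hΘ', hΘ1]
    constructor
    · rintro ⟨q, hq⟩
      rcases (hφeq _ _).1 hq with h | h
      · rw [show (c : Subgroup.centralizer ({z} : Set G)) = ((q : Q) : Subgroup.centralizer ({z} : Set G)) from Subtype.ext h]
        exact (q : Q).2
      · rw [show (c : Subgroup.centralizer ({z} : Set G)) = (((q : Q) * t : Q) : Subgroup.centralizer ({z} : Set G)) from Subtype.ext h]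
        exact SetLike.coe_mem _
    · intro hc
      exact ⟨⟨⟨c, hc⟩, Subgroup.mem_centralizer_singleton_iff.2
        (Subtype.ext (Subgroup.mem_centralizer_singleton_iff.1 c.2))⟩, rfl⟩
  haveI hRn : R.Normal := hRker ▸ inferInstance
  let e' : Subgroup.centralizer ({z'} : Set (H ⧸ N)) ⧸ R ≃* Spor.Co2 :=
    (QuotientGroup.quotientMulEquivOfEq hRker).trans (QuotientGroup.quotientKerEquivOfSurjective Θ' hΘ'surj)
  have he' : ∀ c, e' (QuotientGroup.mk (φ c)) = Θ c := fun c => hΘ' c
  have hχeq : ∀ q r : centA t, χ q = χ r ↔ (r : Q) = q ∨ (r : Q) = q * t := by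
    intro q r
    refine (hφeq _ _).trans (or_congr ⟨fun h => Subtype.ext (Subtype.ext h), fun h => by rw [show (r : centA t) = q from Subtype.ext h]⟩ ?_)
    exact ⟨fun h => Subtype.ext (Subtype.ext h), fun h => congrArg (fun q : Q => ((q : Subgroup.centralizer ({z} : Set G)) : G)) h⟩
  let zA : centA t := ⟨M.zQ, Subgroup.mem_centralizer_singleton_iff.2 (M.zQ_central t).symm⟩
  let tA : centA t := ⟨t, Subgroup.mem_centralizer_singleton_iff.2 rfl⟩
  have hzA : ∀ q : centA t, Commute zA q := fun q => Subtype.ext (M.zQ_central q).symm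
  have hc0 : χ zA ≠ 1 := by
    intro h
    rw [← map_one χ, hχeq] at h
    rcases h with h | h
    · exact M.zQ_ne_one h.symm
    · refine htc (M.mem_center_iff.2 (Or.inr ?_))
      calc t = M.zQ * (M.zQ * t) := by rw [← mul_assoc, M.zQ_sq, one_mul]
        _ = M.zQ * 1 := by rw [← h]; rfl
        _ = _ := mul_one _
  have hzA2 : zA * zA = 1 := Subtype.ext M.zQ_sq
  have hcardA : Nat.card (centA t) = 2 ^ 24 := M.card_centQ htc
  have hcardR : Nat.card R = 2 ^ 23 := by
    have h1 := Subgroup.card_eq_card_quotient_mul_card_subgroup χ.ker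
    rw [Nat.card_congr (QuotientGroup.quotientKerEquivRange χ).toEquiv, hcardA] at h1
    have h2 : (χ.ker : Set (centA t)) = {1, tA} := by
      ext q
      rw [SetLike.mem_coe, MonoidHom.mem_ker, ← map_one χ, hχeq]
      simp only [Set.mem_insert_iff, Set.mem_singleton_iff]
      constructor
      · rintro (h | h)
        · exact Or.inl (Subtype.ext h.symm)
        · exact Or.inr (Subtype.ext ((mul_eq_one_iff_eq_inv.1 h.symm).trans (inv_eq_of_mul_eq_one_right ht2)))
      · rintro (rfl | rfl)
        · exact Or.inl rfl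
        · exact Or.inr ht2.symm
    have h3 : Nat.card χ.ker = 2 := by
      rw [← SetLike.coe_sort_coe, Nat.card_coe_set_eq, h2, Set.ncard_pair]
      intro h
      exact htc (M.mem_center_iff.2 (Or.inl (congrArg Subtype.val h).symm))
    rw [h3] at h1
    rw [hR]
    omega
  let cR : R := χ.rangeRestrict zA
  have hcR : ∀ r : R, Commute cR r := by
    rintro ⟨_, q, rfl⟩
    exact Subtype.ext (show χ zA * χ q = χ q * χ zA by rw [← map_mul, (hzA q).eq, map_mul])
  have hcenR : ∀ r : R, (∀ y, Commute r y) → r = 1 ∨ r = cR := by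
    rintro ⟨_, q, rfl⟩ hq
    have hqA : ∀ r : centA t, q * r = r * q := by
      intro r
      have h := congrArg Subtype.val (hq ⟨χ r, r, rfl⟩).eq
      change χ q * χ r = χ r * χ q at h
      rw [← map_mul, ← map_mul, hχeq] at h
      rcases h with h | h
      · exact (Subtype.ext h).symm
      · exfalso
        simp only [Subgroup.coe_mul] at h
        rcases M.qdata.comm (r : Q) q with h1 | h1 <;> rw [h1] at h
        · exact htc (M.mem_center_iff.2 (Or.inl (mul_left_cancel ((mul_one _).trans h)).symm))
        · exact htc (M.mem_center_iff.2 (Or.inr (mul_left_cancel h).symm))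
    rcases M.center_centA t ht2 htu hqA with h | h | h | h
    · exact Or.inl (Subtype.ext (by rw [show q = 1 from Subtype.ext h]; exact map_one χ))
    · exact Or.inr (Subtype.ext (congrArg χ (Subtype.ext h : q = zA)))
    · refine Or.inl (Subtype.ext ?_)
      show χ q = 1
      rw [← map_one χ, hχeq]
      exact Or.inr (by rw [h, ht2]; rfl)
    · refine Or.inr (Subtype.ext ?_)
      show χ q = χ zA
      rw [hχeq]
      exact Or.inr (by rw [h, mul_assoc, M.zQ_central t |>.symm, ← mul_assoc, ht2, one_mul])
  have hRp : IsPGroup 2 R := IsPGroup.of_card (n := 23) hcardR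
  have hsqA : ∀ q : centA t, q * q = 1 ∨ q * q = zA := fun q =>
    (M.qdata.squares (q : Q)).imp (fun h => Subtype.ext h) fun h => Subtype.ext h
  have hcommA : ∀ q r : centA t, ⁅q, r⁆ = 1 ∨ ⁅q, r⁆ = zA := by
    intro q r
    have he : (⁅q, r⁆ : centA t).1 = (q : Q) * r * ((r : Q) * q)⁻¹ := by
      show (q : Q) * r * (q : Q)⁻¹ * (r : Q)⁻¹ = _
      group
    rcases M.qdata.comm (q : Q) r with h | h
    · exact Or.inl (Subtype.ext (he.trans (by rw [h, mul_inv_cancel]; rfl)))
    · exact Or.inr (Subtype.ext (he.trans (by rw [h, M.zQ_central, mul_inv_cancel_right])))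
  have hzpR : ∀ q : centA t, (q = 1 ∨ q = zA) → χ.rangeRestrict q ∈ Subgroup.zpowers cR := by
    rintro q (rfl | rfl)
    · rw [map_one]; exact one_mem _
    · exact Subgroup.mem_zpowers _
  have hex : IsExtraspecial 2 R := by
    refine LargeExtraspecial.isExtraspecial_of hRp (c := cR) (fun h => hc0 (congrArg Subtype.val h))
      ?_ hcR (fun r hr => ?_) (fun a b => ?_) (fun a => ?_) ?_
    · rw [← map_mul, hzA2, map_one]
    · rcases hcenR r hr with h | h <;> rw [h]
      · exact one_mem _
      · exact Subgroup.mem_zpowers _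
    · obtain ⟨q, rfl⟩ := χ.rangeRestrict_surjective a
      obtain ⟨r, rfl⟩ := χ.rangeRestrict_surjective b
      rw [← map_commutatorElement]
      exact hzpR _ (hcommA q r)
    · obtain ⟨q, rfl⟩ := χ.rangeRestrict_surjective a
      rw [← map_mul]
      exact hzpR _ (hsqA q)
    · by_contra hall
      push Not at hall
      have htop : ∀ r : R, r = 1 ∨ r = cR := fun r => hcenR r fun y => commutatorElement_eq_one_iff_commute.1 (hall r y)
      have : (Set.univ : Set R) ⊆ {1, cR} := fun r _ => htop r
      have h1 := Set.ncard_le_ncard this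
      rw [Set.ncard_univ, hcardR] at h1
      have h2 : ({1, cR} : Set R).ncard ≤ 2 := (Set.ncard_insert_le _ _).trans (by simp)
      omega
  haveI := co2_isSimple.1
  have hsimp : IsSimpleGroup (Subgroup.centralizer ({z'} : Set (H ⧸ N)) ⧸ R) :=
    MulEquiv.isSimpleGroup e'
  have hC : Subgroup.centralizer (R : Set (Subgroup.centralizer ({z'} : Set (H ⧸ N)))) ≤ R := by
    haveI := hsimp
    haveI : (Subgroup.centralizer (R : Set (Subgroup.centralizer ({z'} : Set (H ⧸ N))))).Normal := inferInstance
    rcases IsSimpleGroup.eq_bot_or_eq_top_of_normal _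
      ((inferInstance : (Subgroup.centralizer (R : Set (Subgroup.centralizer ({z'} : Set (H ⧸ N))))).Normal).map
        (QuotientGroup.mk' R) (QuotientGroup.mk'_surjective R)) with h | h
    · intro x hx
      rw [← QuotientGroup.eq_one_iff]
      have : QuotientGroup.mk' R x ∈ (Subgroup.centralizer (R : Set _)).map (QuotientGroup.mk' R) := ⟨x, hx, rfl⟩
      rw [h, Subgroup.mem_bot] at this
      exact this
    · exfalso
      set K := Subgroup.centralizer (R : Set (Subgroup.centralizer ({z'} : Set (H ⧸ N)))) with hK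
      have h23 : 23 ∣ Nat.card K := by
        have h1 := card_map_mul_inf_ker (QuotientGroup.mk' R) K
        rw [h, Subgroup.card_top, Nat.card_congr e'.toEquiv, co2_isSimple.2] at h1
        rw [← h1]
        exact Dvd.dvd.mul_right (by norm_num) _
      obtain ⟨d, hd⟩ := exists_prime_orderOf_dvd_card' 23 h23
      obtain ⟨c, hc⟩ := hφsurj (d : Subgroup.centralizer ({z'} : Set (H ⧸ N)))
      set u := ((c ^ 2 : centC t) : Subgroup.centralizer ({z} : Set G)) with hu
      have hd23 : orderOf (φ c) = 23 := by rw [hc, Subgroup.orderOf_coe, hd]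
      have hu23 : u ^ 23 = 1 := by
        have h1 : φ (c ^ 23) = φ 1 := by rw [map_pow, ← hd23, pow_orderOf_eq_one, map_one]
        have hu' : u ^ 23 = (((c ^ 23) ^ 2 : centC t) : Subgroup.centralizer ({z} : Set G)) := by
          rw [← SubmonoidClass.coe_pow, ← pow_mul, ← pow_mul]
        rw [hu', SubmonoidClass.coe_pow]
        apply Subtype.ext
        rw [SubmonoidClass.coe_pow, OneMemClass.coe_one]
        rcases (hφeq _ _).1 h1 with h2 | h2
        · rw [← h2]; simp
        · have h3 : (((c ^ 23 : centC t) : Subgroup.centralizer ({z} : Set G)) : G) = tG⁻¹ :=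
            eq_inv_of_mul_eq_one_left h2.symm
          rw [h3, inv_pow, ← htord, pow_orderOf_eq_one, inv_one]
      have hmove : ∀ q : Q, ∀ k : Subgroup.centralizer ({z} : Set G), k * u = u * k →
          u * q * u⁻¹ = q * k → k ^ 23 = 1 := by
        intro q k hk h1
        have hn : ∀ n : ℕ, u ^ n * q * (u ^ n)⁻¹ = q * k ^ n := by
          intro n
          induction n with
          | zero => simp
          | succ n ih =>
            rw [pow_succ' u, mul_inv_rev, show u * u ^ n * q * ((u ^ n)⁻¹ * u⁻¹) = u * (u ^ n * q * (u ^ n)⁻¹) * u⁻¹ by group, ih,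
              show u * ((q : Subgroup.centralizer ({z} : Set G)) * k ^ n) * u⁻¹ = u * q * u⁻¹ * (u * k ^ n * u⁻¹) by group,
              h1, ((show Commute k u from hk).pow_left n).symm.eq, mul_inv_cancel_right, mul_assoc, ← pow_succ']
        have := hn 23
        rw [hu23] at this
        simpa using this.symm
      have hcA : ∀ q : centA t, u * ((q : Q) : Subgroup.centralizer ({z} : Set G)) = ((q : Q) : Subgroup.centralizer ({z} : Set G)) * u := by
        intro q
        have hcom : φ (c ^ 2) * χ q = χ q * φ (c ^ 2) := by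
          have h2 : (d : Subgroup.centralizer ({z'} : Set (H ⧸ N))) * χ q = χ q * d :=
            (Subgroup.mem_centralizer_iff.1 d.2 (χ q) ⟨q, rfl⟩).symm
          rw [← hc] at h2
          rw [map_pow]
          exact ((show Commute (φ c) (χ q) from h2).pow_left 2).eq
        have h3 : φ (c ^ 2 * incA t q * (c ^ 2)⁻¹) = χ q := by
          rw [map_mul, map_mul, map_inv, show φ (incA t q) = χ q from rfl, hcom, mul_inv_cancel_right]
        rcases (hφeq _ _).1 h3.symm with h4 | h4
        · exact mul_inv_eq_iff_eq_mul.1 (Subtype.ext h4)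
        · exfalso
          have h5 : u * ((q : Q) : Subgroup.centralizer ({z} : Set G)) * u⁻¹ =
              ((q : Q) : Subgroup.centralizer ({z} : Set G)) * (t : Subgroup.centralizer ({z} : Set G)) :=
            Subtype.ext h4
          have hut : (t : Subgroup.centralizer ({z} : Set G)) * u = u * t :=
            (Subgroup.mem_centralizer_singleton_iff.1 (c ^ 2).2).symm
          have h6 := hmove q _ hut h5
          have ht2' : (t : Subgroup.centralizer ({z} : Set G)) ^ 2 = 1 := by
            rw [pow_two]; exact congrArg Subtype.val ht2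
          rw [show (23 : ℕ) = 2 * 11 + 1 from rfl, pow_succ, pow_mul, ht2', one_pow, one_mul] at h6
          exact htc (M.mem_center_iff.2 (Or.inl (Subtype.ext h6)))
      have hAi : (centA t).index = 2 := by
        have h0 := (centA t).card_mul_index
        rw [hcardA, M.card_Q] at h0
        omega
      have hnormA : ∀ q : Q, cj u q ∈ centA t → q ∈ centA t := by
        intro q hq
        rw [Subgroup.mem_centralizer_singleton_iff] at hq ⊢
        apply Subtype.ext
        have h1 : u * q * u⁻¹ * (t : Subgroup.centralizer ({z} : Set G)) = t * (u * q * u⁻¹) := congrArg Subtype.val hq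
        have hut : u * (t : Subgroup.centralizer ({z} : Set G)) = t * u :=
          Subgroup.mem_centralizer_singleton_iff.1 (c ^ 2).2
        have hut' : u⁻¹ * (t : Subgroup.centralizer ({z} : Set G)) = t * u⁻¹ := (Commute.inv_left hut).eq
        show (q : Subgroup.centralizer ({z} : Set G)) * t = t * q
        calc (q : Subgroup.centralizer ({z} : Set G)) * t = u⁻¹ * (u * q * (t * u⁻¹)) * u := by group
          _ = u⁻¹ * (u * q * (u⁻¹ * t)) * u := by rw [hut']
          _ = u⁻¹ * (u * q * u⁻¹ * t) * u := by group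
          _ = u⁻¹ * (t * (u * q * u⁻¹)) * u := by rw [h1]
          _ = (u⁻¹ * t) * (u * q) := by group
          _ = (t * u⁻¹) * (u * q) := by rw [hut']
          _ = _ := by group
      have hQc : ∀ q : Q, u * (q : Subgroup.centralizer ({z} : Set G)) = q * u := by
        intro q
        by_cases hq : q ∈ centA t
        · exact hcA ⟨q, hq⟩
        · have hk : q⁻¹ * cj u q ∈ centA t := by
            rw [Subgroup.mul_mem_iff_of_index_two hAi]
            exact iff_of_false (fun h => hq (inv_mem_iff.1 h)) (fun h => hq (hnormA q h))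
          have hk' := hcA ⟨_, hk⟩
          have h6 := hmove q ((q⁻¹ * cj u q : Q) : Subgroup.centralizer ({z} : Set G)) hk'.symm (by
            show u * q * u⁻¹ = q * ((q : Subgroup.centralizer ({z} : Set G))⁻¹ * (u * q * u⁻¹))
            group)
          have h7 : q⁻¹ * cj u q = 1 := by
            have h8 : (q⁻¹ * cj u q) ^ 23 = 1 := Subtype.ext (by rw [SubmonoidClass.coe_pow]; exact h6)
            have h9 := orderOf_dvd_of_pow_eq_one h8
            have h10 : orderOf (q⁻¹ * cj u q) ∣ 2 ^ 25 := M.card_Q ▸ orderOf_dvd_natCard _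
            have := Nat.eq_one_of_dvd_coprimes (Nat.Coprime.pow_right 25 (by norm_num : Nat.Coprime 23 2)) h9 h10
            exact orderOf_eq_one_iff.1 this
          rw [inv_mul_eq_one] at h7
          exact mul_inv_eq_iff_eq_mul.1 (congrArg Subtype.val h7).symm
      have huQ : u ∈ Q := by
        have hle := Components.centralizer_generalizedFitting_le (G := Subgroup.centralizer ({z} : Set G))
        rw [M.hS.2.1] at hle
        exact hle (Subgroup.mem_centralizer_iff.2 fun q hq => (hQc ⟨q, hq⟩).symm)
      have hu1 : u = 1 := by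
        have h9 := orderOf_dvd_of_pow_eq_one hu23
        have h10 : orderOf u ∣ 2 ^ 25 := M.card_Q ▸ Subgroup.orderOf_dvd_natCard Q huQ
        exact orderOf_eq_one_iff.1
          (Nat.eq_one_of_dvd_coprimes (Nat.Coprime.pow_right 25 (by norm_num : Nat.Coprime 23 2)) h9 h10)
      have hc2 : φ c ^ 2 = 1 := by
        rw [← map_pow, show c ^ 2 = 1 from Subtype.ext hu1, map_one]
      have := orderOf_dvd_of_pow_eq_one hc2
      rw [hd23] at this
      omega
  have hF : generalizedFittingSubgroup (Subgroup.centralizer ({z'} : Set (H ⧸ N))) = R :=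
    generalizedFitting_eq_of_quot hRp.isNilpotent hsimp (fun h => co2_not_solvable (by
      haveI := h
      exact Group.isSolvable_of_surjective (f := e'.toMonoidHom) e'.surjective)) hC
  have hz' : orderOf z' = 2 := by
    refine orderOf_eq_prime ?_ fun h => ?_
    · rw [pow_two, ← QuotientGroup.mk_mul, show (⟨z, hzH⟩ : H) * ⟨z, hzH⟩ = 1 from Subtype.ext M.zz_eq, QuotientGroup.mk_one]
    · rw [← QuotientGroup.mk_one, hmkN] at h
      simp only [OneMemClass.coe_one] at h
      rcases h with h | h
      · exact M.zQ_ne_one (Subtype.ext (Subtype.ext h.symm))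
      · exact hc0 (Subtype.ext ((hmkN _ _).2 (Or.inr h)))
  obtain ⟨g, s, hgt, hgs, hs64⟩ := M.exists_fusion_cent ht32 ht2
  have hsA : s ∈ centA t := by
    rw [Subgroup.mem_centralizer_singleton_iff]
    apply Subtype.ext; apply Subtype.ext
    show ((s : Subgroup.centralizer ({z} : Set G)) : G) * tG = tG * _
    have hzt : z * tG = tG * z := (Subgroup.mem_centralizer_singleton_iff.1 (t : Subgroup.centralizer ({z} : Set G)).2).symm
    rw [← hgs]
    calc g * z * g⁻¹ * tG = g * z * g⁻¹ * (g * tG * g⁻¹) := by rw [hgt]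
      _ = g * (z * tG) * g⁻¹ := by group
      _ = g * (tG * z) * g⁻¹ := by rw [hzt]
      _ = g * tG * g⁻¹ * (g * z * g⁻¹) := by group
      _ = _ := by rw [hgt]
  have hgH : g ∈ H := Subgroup.mem_centralizer_singleton_iff.2 (mul_inv_eq_iff_eq_mul.1 hgt)
  have hgs' : (QuotientGroup.mk (⟨g, hgH⟩ : H) : H ⧸ N) * z' * (QuotientGroup.mk (⟨g, hgH⟩ : H))⁻¹ =
      ((χ ⟨s, hsA⟩ : Subgroup.centralizer ({z'} : Set (H ⧸ N))) : H ⧸ N) := by
    rw [← QuotientGroup.mk_inv, ← QuotientGroup.mk_mul, ← QuotientGroup.mk_mul]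
    exact congrArg QuotientGroup.mk (Subtype.ext hgs)
  have hne' : (QuotientGroup.mk (⟨g, hgH⟩ : H) : H ⧸ N) * z' * (QuotientGroup.mk (⟨g, hgH⟩ : H))⁻¹ ≠ z' := by
    rw [← QuotientGroup.mk_inv, ← QuotientGroup.mk_mul, ← QuotientGroup.mk_mul, Ne, hmkN]
    simp only [Subgroup.coe_mul, InvMemClass.coe_inv, hgs]
    rintro (h | h)
    · exact M.not_mem_center (by norm_num) (by norm_num) hs64
        (M.mem_center_iff.2 (Or.inr (Subtype.ext (Subtype.ext h.symm))))
    · have hsz : s * t = M.zQ := Subtype.ext (Subtype.ext h.symm)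
      have hs' : s = t * M.zQ := by
        calc s = s * t * t := by rw [mul_assoc, ht2, mul_one]
          _ = M.zQ * t := by rw [hsz]
          _ = _ := (M.zQ_central t).symm
      obtain ⟨v, hv, hvt⟩ := ht32
      have := M.cls_unique (by norm_num) (by norm_num) hs64
        ⟨v, hv, hvt.trans (M.mk_eq_mk.2 (Or.inr hs'))⟩
      norm_num at this
  have hpick : ∀ x : leechPerpU, ∃ q : centA t, ψ x = QuotientGroup.mk (q : Q) := by
    intro x
    obtain ⟨q, hq⟩ := QuotientGroup.mk_surjective (ψ (x : leechLattice))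
    exact ⟨⟨q, (M.commute_iff_perp t ht2 htu q hq.symm).2 x.2⟩, hq.symm⟩
  let mkR : centA t → R ⧸ Subgroup.center R := fun q => QuotientGroup.mk (χ.rangeRestrict q)
  have hcRc : cR ∈ Subgroup.center R := Subgroup.mem_center_iff.2 fun g => (hcR g).eq.symm
  have hwd : ∀ q r : centA t, (QuotientGroup.mk (q : Q) : Q ⧸ Subgroup.center Q) = QuotientGroup.mk (r : Q) →
      mkR q = mkR r := by
    intro q r h
    rcases M.mk_eq_mk.1 h with h | h
    · rw [show r = q from Subtype.ext h]
    · rw [show r = q * zA from Subtype.ext h]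
      refine QuotientGroup.eq.2 ?_
      rw [map_mul, inv_mul_cancel_left]
      exact hcRc
  let ψ' : leechPerpU → R ⧸ Subgroup.center R := fun x => mkR (hpick x).choose
  have hψ' : ∀ (x : leechPerpU) (q : centA t), ψ x = QuotientGroup.mk (q : Q) → ψ' x = mkR q :=
    fun x q h => hwd _ _ ((hpick x).choose_spec.symm.trans h)
  refine ⟨z', R, hRn, ⟨hz', hF, hex, by rw [hcardR], _, ⟨?_, ?_⟩, hne'⟩, e', ψ', ?_, ?_, ?_, ?_⟩
  · rw [hgs']; exact SetLike.coe_mem _
  · exact ⟨⟨s, hsA⟩, Subtype.ext hgs'.symm⟩
  · intro x y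
    obtain ⟨q, hq⟩ := hpick x
    obtain ⟨r, hr⟩ := hpick y
    rw [hψ' x q hq, hψ' y r hr, hψ' (x + y) (q * r) (by
      rw [AddSubgroup.coe_add, M.hψ.1, hq, hr]; rfl)]
    show QuotientGroup.mk (χ.rangeRestrict (q * r)) = _
    rw [map_mul]; rfl
  · intro w
    obtain ⟨r, rfl⟩ := QuotientGroup.mk_surjective w
    obtain ⟨q, rfl⟩ := χ.rangeRestrict_surjective r
    obtain ⟨v, hv⟩ := M.hψ.2.1 (QuotientGroup.mk (q : Q))
    exact ⟨⟨v, (M.commute_iff_perp t ht2 htu q hv).1 q.2⟩, hψ' _ q hv⟩
  · intro x
    obtain ⟨q, hq⟩ := hpick x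
    rw [hψ' x q hq]
    have hu : ψ (x : leechLattice) = ψ Spor.leechU ↔ ∃ w : leechLattice, (x : leechLattice) = Spor.leechU + (w + w) := by
      rw [M.map_eq_iff]
      constructor
      · rintro ⟨w, hw, h⟩
        refine ⟨⟨w, hw⟩, Subtype.ext ?_⟩
        rw [AddSubgroup.coe_add, AddSubgroup.coe_add, ← two_nsmul, ← h, add_sub_cancel]
      · rintro ⟨w, h⟩
        refine ⟨w, w.2, ?_⟩
        rw [h, AddSubgroup.coe_add, add_sub_cancel_left, two_nsmul]
        rfl
    rw [← M.hψ.2.2.1, ← hu, hq, htu, QuotientGroup.eq_one_iff,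
      QuotientGroup.eq_one_iff, M.mem_center_iff, M.mk_eq_mk]
    constructor
    · intro h
      rcases M.center_centA t ht2 htu (q := q) (fun r => by
        rcases hcenR _ (fun y => (Subgroup.mem_center_iff.1 h y).symm) with h1 | h1
        · have h2 : χ q = χ 1 := (congrArg Subtype.val h1).trans (map_one χ).symm
          rcases (hχeq _ _).1 h2 with h3 | h3
          · rw [show q = 1 from Subtype.ext h3.symm, one_mul, mul_one]
          · rw [show q = tA⁻¹ from Subtype.ext (eq_inv_of_mul_eq_one_left h3.symm)]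
            exact (Commute.inv_left (show Commute tA r from Subtype.ext (Subgroup.mem_centralizer_singleton_iff.1 r.2).symm)).eq
        · rcases (hχeq _ _).1 (congrArg Subtype.val h1 : χ q = χ zA).symm with h3 | h3
          · rw [show q = zA from Subtype.ext h3]; exact (hzA r).eq
          · rw [show q = zA * tA from Subtype.ext h3]
            exact ((hzA r).mul_left (show Commute tA r from Subtype.ext (Subgroup.mem_centralizer_singleton_iff.1 r.2).symm)).eq)
        with h1 | h1 | h1 | h1
      · exact Or.inl (Or.inl h1)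
      · exact Or.inl (Or.inr h1)
      · exact Or.inr (Or.inl h1.symm)
      · refine Or.inr (Or.inr ?_)
        rw [h1, mul_assoc, M.zQ_sq, mul_one]
    · rintro ((h | h) | (h | h))
      · rw [show q = 1 from Subtype.ext h, map_one]; exact one_mem _
      · rw [show q = zA from Subtype.ext h]; exact hcRc
      · have h2 : χ.rangeRestrict q = 1 := Subtype.ext (by
          show χ q = 1
          rw [← map_one χ, hχeq]
          exact Or.inr (by rw [← h, ht2]; rfl))
        rw [h2]; exact one_mem _
      · have h2 : χ.rangeRestrict q = cR := Subtype.ext (by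
          show χ q = χ zA
          rw [hχeq]
          have hq' : (q : Q) = t * M.zQ := by
            calc (q : Q) = (q : Q) * M.zQ * M.zQ := by rw [mul_assoc, M.zQ_sq, mul_one]
              _ = t * M.zQ := congrArg (· * M.zQ) h.symm
          exact Or.inr (show M.zQ = (q : Q) * t by
            rw [hq', M.zQ_central, mul_assoc, ht2, mul_one]))
        rw [h2]; exact hcRc
  · intro h g hgh x y hxy r hr
    obtain ⟨c, rfl⟩ := hφsurj h
    rw [he'] at hgh
    obtain ⟨q, hq⟩ := hpick x
    have hgg : (QuotientGroup.mk (Subgroup.inclusion inf_le_left g : Co0) : Spor.Co1) =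
        e (QuotientGroup.mk (c : Subgroup.centralizer ({z} : Set G))) := by
      show co2Hom g = proj e (c : Subgroup.centralizer ({z} : Set G))
      rw [← hgh, hΘ]
    have h1 := M.hψ.2.2.2 c (Subgroup.inclusion inf_le_left g) hgg x q hq
    rw [co2_smul, hxy] at h1
    have hmem : cj (c : Subgroup.centralizer ({z} : Set G)) (q : Q) ∈ centA t :=
      (M.commute_iff_perp t ht2 htu _ h1).2 y.2
    rw [hψ' y ⟨_, hmem⟩ h1]
    rw [hψ' x q hq] at hr
    obtain ⟨r₀, rfl⟩ := χ.rangeRestrict_surjective r
    refine QuotientGroup.eq.2 ?_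
    have h2 := QuotientGroup.eq.1 hr
    rcases hcenR _ (fun w => (Subgroup.mem_center_iff.1 h2 w).symm) with h3 | h3
    all_goals
      have h4 := congrArg Subtype.val h3
      simp only [Subgroup.coe_mul, InvMemClass.coe_inv, MonoidHom.coe_rangeRestrict] at h4
      rw [inv_mul_eq_iff_eq_mul] at h4
      have h5 : χ ⟨cj (c : Subgroup.centralizer ({z} : Set G)) (q : Q), hmem⟩ = φ c * χ q * (φ c)⁻¹ := by
        show _ = φ c * φ (incA t q) * (φ c)⁻¹
        rw [← map_inv, ← map_mul, ← map_mul]; rfl
    · refine Subgroup.mem_center_iff.2 fun w => ?_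
      have : (χ.rangeRestrict ⟨cj (c : Subgroup.centralizer ({z} : Set G)) (q : Q), hmem⟩)⁻¹ *
          ⟨φ c * (χ.rangeRestrict r₀) * (φ c)⁻¹, hRn.conj_mem _ (SetLike.coe_mem _) _⟩ = 1 := by
        apply Subtype.ext
        simp only [Subgroup.coe_mul, InvMemClass.coe_inv, MonoidHom.coe_rangeRestrict, OneMemClass.coe_one, h5, h4, mul_one]
        group
      rw [this, mul_one, one_mul]
    · refine Subgroup.mem_center_iff.2 fun w => ?_
      have hzc : φ c * χ zA * (φ c)⁻¹ = χ zA := by
        show φ c * φ (incA t zA) * (φ c)⁻¹ = φ (incA t zA)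
        rw [← map_inv, ← map_mul, ← map_mul]
        congr 1
        exact mul_inv_eq_iff_eq_mul.2 (Subtype.ext (zC_comm _))
      have : (χ.rangeRestrict ⟨cj (c : Subgroup.centralizer ({z} : Set G)) (q : Q), hmem⟩)⁻¹ *
          ⟨φ c * (χ.rangeRestrict r₀) * (φ c)⁻¹, hRn.conj_mem _ (SetLike.coe_mem _) _⟩ = cR := by
        apply Subtype.ext
        simp only [Subgroup.coe_mul, InvMemClass.coe_inv, MonoidHom.coe_rangeRestrict, h5, h4]
        conv_rhs => rw [show ((cR : R) : Subgroup.centralizer ({z'} : Set (H ⧸ N))) = φ c * χ zA * (φ c)⁻¹ from hzc.symm]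
        show _ = φ c * χ zA * (φ c)⁻¹
        rw [show ((cR : R) : Subgroup.centralizer ({z'} : Set (H ⧸ N))) = χ zA from rfl]
        group
      rw [this]
      exact (hcR w).eq.symm

end Setting

end Cfsg.Agent.Monster39
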