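import Cfsg.Agent.Lib.Leech.Decomp
import Cfsg.Agent.Lib.Leech.CodeUnique
import Cfsg.Agent.Lib.Golay.Simple

/-!
An invariant isotropic family of classes through a frame class contains a minimal vector.
-/
set_option autoImplicit false
set_option linter.style.haveILetI false

namespace Cfsg.Agent.Monster39

open Cfsg Cfsg.Agent.Leech
open scoped Pointwise

theorem exists_map_fixing_three {a b c d d' : GolayPt} (hab : a ≠ b) (hac : a ≠ c) (had : a ≠ d)
    (hbc : b ≠ c) (hbd : b ≠ d) (hcd : c ≠ d) (ha : a ≠ d') (hb : b ≠ d') (hc : c ≠ d') :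
    ∃ σ : M24, σ.1 a = a ∧ σ.1 b = b ∧ σ.1 c = c ∧ σ.1 d = d' := by
  haveI := Golay.five_transitive
  haveI : MulAction.IsMultiplyPretransitive M24 GolayPt 4 :=
    MulAction.isMultiplyPretransitive_of_le' (α := GolayPt) (m := 4) (n := 5) (by norm_num)
      (by simp [← Nat.card_eq_fintype_card]; norm_num)
  have hi : ∀ e : GolayPt, a ≠ e → b ≠ e → c ≠ e → Function.Injective ![a, b, c, e] := by
    intro e h1 h2 h3 i j h
    fin_cases i <;> fin_cases j <;> simp_all
  obtain ⟨σ, hσ⟩ := MulAction.exists_smul_eq M24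
    (⟨_, hi d had hbd hcd⟩ : Fin 4 ↪ GolayPt) (⟨_, hi d' ha hb hc⟩ : Fin 4 ↪ GolayPt)
  exact ⟨σ, congrFun (congrArg (↑) hσ) 0, congrFun (congrArg (↑) hσ) 1,
    congrFun (congrArg (↑) hσ) 2, congrFun (congrArg (↑) hσ) 3⟩

theorem exists_inter_notMem {s : Finset GolayPt} (hs : s ∈ code) (h0 : s ≠ ∅) (h16 : s.card ≤ 16) :
    ∃ C ∈ code, s ∩ C ∉ code := by
  classical
  have small : ∀ t : Finset GolayPt, t ∈ code → t ≠ ∅ → t.card ≤ 12 → ∃ C ∈ code, t ∩ C ∉ code := by
    intro t ht ht0 h12
    by_contra hall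
    push Not at hall
    have h8 := code_card_min ht ht0
    obtain ⟨i, hi, j, hj, hij⟩ := Finset.one_lt_card.1 (by omega : 1 < t.card)
    obtain ⟨C, hC, hjC, hiC⟩ := exists_code_mem_notMem hij
    have h1 := code_card_min (hall C hC) (Finset.ne_empty_of_mem (Finset.mem_inter.2 ⟨hj, hjC⟩))
    have h2 := code_card_min (hall Cᶜ (compl_mem_code hC))
      (Finset.ne_empty_of_mem (Finset.mem_inter.2 ⟨hi, Finset.mem_compl.2 hiC⟩))
    have h3 : (t ∩ C).card + (t ∩ Cᶜ).card = t.card := by
      rw [← Finset.card_union_of_disjoint (Finset.disjoint_left.2 fun a h1 h2 => Finset.mem_compl.1 (Finset.mem_inter.1 h2).2 (Finset.mem_inter.1 h1).2),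
        ← Finset.inter_union_distrib_left, Finset.union_compl, Finset.inter_univ]
    omega
  by_cases h12 : s.card ≤ 12
  · exact small s hs h0 h12
  · by_contra hall
    push Not at hall
    have hc : sᶜ.card ≤ 12 := by rw [Finset.card_compl, ← Nat.card_eq_fintype_card]; simp; omega
    have hne : sᶜ ≠ ∅ := fun e => by
      have := congrArg Finset.card e
      rw [Finset.card_compl, Finset.card_empty] at this
      simp at this
      omega
    obtain ⟨C, hC, hbad⟩ := small sᶜ (compl_mem_code hs) hne hc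
    refine hbad ?_
    have : sᶜ ∩ C = symmDiff C (s ∩ C) := by
      ext i; by_cases hi : i ∈ s <;> by_cases hj : i ∈ C <;> simp [Finset.mem_symmDiff, hi, hj]
    rw [this]
    exact symmDiff_mem_code hC (hall C hC)

variable {P : leechLattice → Prop}

/-- The case of a vector with all coordinates divisible by four. -/
theorem exists_norm32_of_four_dvd
    (hsub : ∀ v w, P v → P w → P (v - w))
    (hinv : ∀ (σ : M24) (v : leechLattice), P v → P (mono σ empty_mem_code • v))
    {y : leechLattice} (hy : P y) (hn : sqNorm (y : GolayPt → ℤ) = 64)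
    (h4 : ∀ i, (4 : ℤ) ∣ (y : GolayPt → ℤ) i)
    (hf : ¬ Cong (frame none : GolayPt → ℤ) (y : GolayPt → ℤ)) :
    ∃ w : leechLattice, P w ∧ sqNorm (w : GolayPt → ℤ) = 32 := by
  classical
  set f : GolayPt → ℤ := (y : GolayPt → ℤ) with hfdef
  have hsum : ∑ i, f i ^ 2 = 64 := hn
  have hone : ∀ i, f i ≠ 0 → f i = 4 ∨ f i = -4 := by
    intro i hi
    obtain ⟨k, hk⟩ := h4 i
    have hle : f i ^ 2 ≤ 64 := hsum ▸
      Finset.single_le_sum (f := fun j => f j ^ 2) (fun j _ => sq_nonneg _) (Finset.mem_univ i)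
    have hk2 : -2 ≤ k ∧ k ≤ 2 := by constructor <;> nlinarith
    have hk0 : k ≠ 0 := fun e => hi (by rw [hk, e, mul_zero])
    by_contra hcon
    push Not at hcon
    have hk8 : f i = 8 ∨ f i = -8 := by omega
    refine hf ((stdCross_subset f ⟨i, f i, hk8, ?_⟩).2.2)
    funext j
    rcases eq_or_ne j i with rfl | hji
    · simp
    · rw [Pi.single_eq_of_ne hji]
      have := Finset.sum_erase_add Finset.univ (fun j => f j ^ 2) (Finset.mem_univ i)
      rw [hsum] at this
      have hz : ∑ j ∈ Finset.univ.erase i, f j ^ 2 = 0 := by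
        rcases hk8 with h | h <;> rw [h] at this <;> linarith
      have := (Finset.sum_eq_zero_iff_of_nonneg fun j _ => sq_nonneg (f j)).1 hz j
        (Finset.mem_erase.2 ⟨hji, Finset.mem_univ j⟩)
      exact pow_eq_zero_iff (two_ne_zero) |>.1 this
  have hcard : (Finset.univ.filter fun i => f i ≠ 0).card = 4 := by
    have h : ∑ i, f i ^ 2 = ∑ i ∈ Finset.univ.filter (fun i => f i ≠ 0), (16 : ℤ) := by
      rw [Finset.sum_filter]
      refine Finset.sum_congr rfl fun i _ => ?_
      by_cases hi : f i = 0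
      · simp [hi]
      · rw [if_pos hi]; rcases hone i hi with h | h <;> rw [h] <;> norm_num
    rw [hsum, Finset.sum_const, nsmul_eq_mul] at h
    omega
  obtain ⟨a, ha⟩ := Finset.card_pos.1 (by omega : 0 < (Finset.univ.filter fun i => f i ≠ 0).card)
  obtain ⟨b, c, d, hbc, hbd, hcd, hbcd⟩ := Finset.card_eq_three.1
    (by rw [Finset.card_erase_of_mem ha, hcard] :
      ((Finset.univ.filter fun i => f i ≠ 0).erase a).card = 3)
  have hS : ∀ i, f i ≠ 0 ↔ (i = a ∨ i = b ∨ i = c ∨ i = d) := by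
    intro i
    by_cases hia : i = a
    · subst hia; simpa using ha
    · have := Finset.ext_iff.1 hbcd i
      simp only [Finset.mem_erase, Finset.mem_filter, Finset.mem_univ, true_and, Finset.mem_insert,
        Finset.mem_singleton, ne_eq, hia, not_false_eq_true] at this
      simpa [hia] using this
  have hab : a ≠ b ∧ a ≠ c ∧ a ≠ d := by
    refine ⟨?_, ?_, ?_⟩ <;>
      (intro e; have := Finset.ext_iff.1 hbcd a; simp [e] at this)
  obtain ⟨d', hd'⟩ : ∃ d', f d' = 0 := by
    by_contra hcon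
    push Not at hcon
    rw [Finset.filter_true_of_mem (fun i _ => hcon i), Finset.card_univ] at hcard
    simp at hcard
  have hd'S : ∀ i, f i ≠ 0 → i ≠ d' := fun i hi e => hi (e ▸ hd')
  obtain ⟨σ, sa, sb, sc, sd⟩ := exists_map_fixing_three hab.1 hab.2.1 hab.2.2 hbc hbd hcd
    (hd'S a ((hS a).2 (by simp))) (hd'S b ((hS b).2 (by simp))) (hd'S c ((hS c).2 (by simp)))
  refine ⟨y - mono σ empty_mem_code • y, hsub _ _ hy (hinv σ y hy), ?_⟩
  have hdd : d ≠ d' := hd'S d ((hS d).2 (by simp))
  have hval : ((y - mono σ empty_mem_code • y : leechLattice) : GolayPt → ℤ) =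
      (Pi.single d (f d) : GolayPt → ℤ) - Pi.single d' (f d) := by
    funext i
    rw [AddSubgroup.coe_sub, Pi.sub_apply, coe_mono_smul]
    simp only [signedPerm, Finset.notMem_empty, if_false, ← hfdef, Pi.sub_apply]
    obtain ⟨j, rfl⟩ := σ.1.surjective i
    rw [Equiv.symm_apply_apply]
    by_cases hj : f j = 0
    · rw [hj, sub_zero]
      have hjd : j ≠ d := fun e => (hS d).2 (by simp) (e ▸ hj)
      have hσd' : σ.1 j ≠ d' := fun e => hjd (σ.1.injective (e.trans sd.symm))
      rw [Pi.single_eq_of_ne hσd']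
      by_cases hσd : σ.1 j = d
      · rw [hσd, Pi.single_eq_same, sub_zero]
      · rw [Pi.single_eq_of_ne hσd, sub_zero]
        by_contra hne
        rcases (hS _).1 hne with e | e | e | e
        · exact (hS a).2 (by simp) (σ.1.injective (e.trans sa.symm) ▸ hj)
        · exact (hS b).2 (by simp) (σ.1.injective (e.trans sb.symm) ▸ hj)
        · exact (hS c).2 (by simp) (σ.1.injective (e.trans sc.symm) ▸ hj)
        · exact hσd e
    · rcases (hS j).1 hj with rfl | rfl | rfl | rfl
      · rw [sa, sub_self, Pi.single_eq_of_ne hab.2.2, Pi.single_eq_of_ne (hd'S _ hj), sub_self]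
      · rw [sb, sub_self, Pi.single_eq_of_ne hbd, Pi.single_eq_of_ne (hd'S _ hj), sub_self]
      · rw [sc, sub_self, Pi.single_eq_of_ne hcd, Pi.single_eq_of_ne (hd'S _ hj), sub_self]
      · rw [sd, hd', zero_sub, Pi.single_eq_same, Pi.single_eq_of_ne hdd.symm, zero_sub]
  rw [hval, sqNorm, ← Finset.sum_erase_add _ _ (Finset.mem_univ d),
    ← Finset.sum_erase_add _ _ (Finset.mem_erase.2 ⟨hdd.symm, Finset.mem_univ d'⟩),
    Finset.sum_eq_zero fun i hi => by
      simp only [Finset.mem_erase] at hi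
      simp [Pi.single_eq_of_ne hi.1, Pi.single_eq_of_ne hi.2.1]]
  simp only [Pi.sub_apply, Pi.single_eq_same, Pi.single_eq_of_ne hdd, Pi.single_eq_of_ne hdd.symm]
  rcases hone d ((hS d).2 (by simp)) with h | h <;> rw [h] <;> norm_num

/-- An invariant isotropic family with only classes of squared length 64 is contained in the frame class. -/
theorem exists_norm32 (hcong : ∀ v w : leechLattice, Cong (v : GolayPt → ℤ) (w : GolayPt → ℤ) → P v → P w)
    (hsub : ∀ v w, P v → P w → P (v - w))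
    (hinv : ∀ (σ : M24) (c : Finset GolayPt) (hc : c ∈ code) (v : leechLattice),
      P v → P (mono σ hc • v))
    (horth : ∀ v, P v → (2 : ℤ) ∣ (v : GolayPt → ℤ) none)
    (h64 : ∀ v, P v → Cong (v : GolayPt → ℤ) 0 ∨ Cong (frame none : GolayPt → ℤ) (v : GolayPt → ℤ) ∨
      ∃ w : leechLattice, sqNorm (w : GolayPt → ℤ) = 64 ∧ Cong (v : GolayPt → ℤ) (w : GolayPt → ℤ))
    {v : leechLattice} (hv : P v) (h0 : ¬ Cong (v : GolayPt → ℤ) 0)
    (hf : ¬ Cong (frame none : GolayPt → ℤ) (v : GolayPt → ℤ)) :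
    ∃ w : leechLattice, P w ∧ sqNorm (w : GolayPt → ℤ) = 32 := by
  classical
  have rep : ∀ v, P v → ¬ Cong (v : GolayPt → ℤ) 0 → ¬ Cong (frame none : GolayPt → ℤ) (v : GolayPt → ℤ) →
      ∃ y : leechLattice, P y ∧ sqNorm (y : GolayPt → ℤ) = 64 ∧ Cong (v : GolayPt → ℤ) (y : GolayPt → ℤ) ∧
        ¬ Cong (frame none : GolayPt → ℤ) (y : GolayPt → ℤ) := by
    intro v hv h0 hf
    rcases h64 v hv with h | h | ⟨w, hw, hvw⟩
    · exact absurd h h0
    · exact absurd h hf
    · exact ⟨w, hcong v w hvw hv, hw, hvw, fun h => hf (h.trans hvw.symm)⟩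
  obtain ⟨y, hy, hn, -, hyf⟩ := rep v hv h0 hf
  obtain ⟨m, hm, s, hs, h4, -⟩ := exists_normal_form y.2
  have hm0 : m = 0 := by
    have h1 := h4 none
    have h2 := horth y hy
    rcases hm with rfl | rfl
    · rfl
    · simp only [bit] at h1; split_ifs at h1 <;> omega
  subst hm0
  rcases eq_or_ne s ∅ with rfl | hs0
  · exact exists_norm32_of_four_dvd hsub (fun σ => hinv σ ∅ empty_mem_code) hy hn
      (fun i => by simpa [bit] using h4 i) hyf
  have h16 : s.card ≤ 16 := by
    have hge : ∑ i ∈ s, (4 : ℤ) ≤ ∑ i ∈ s, (y : GolayPt → ℤ) i ^ 2 := Finset.sum_le_sum fun i hi => by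
      obtain ⟨k, hk⟩ := h4 i
      simp only [bit, if_pos hi] at hk
      have hne : (y : GolayPt → ℤ) i ≤ -2 ∨ 2 ≤ (y : GolayPt → ℤ) i := by omega
      rcases hne with h | h <;> nlinarith
    have hle : ∑ i ∈ s, (y : GolayPt → ℤ) i ^ 2 ≤ 64 := hn ▸
      Finset.sum_le_sum_of_subset_of_nonneg (Finset.subset_univ s) (fun i _ _ => sq_nonneg _)
    rw [Finset.sum_const, nsmul_eq_mul] at hge
    omega
  obtain ⟨C, hC, hbad⟩ := exists_inter_notMem hs hs0 h16
  set w := y - mono 1 hC • y with hw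
  have hwv : ∀ i, (w : GolayPt → ℤ) i = if i ∈ C then 2 * (y : GolayPt → ℤ) i else 0 := by
    intro i
    have hsymm : ((1 : M24) : Equiv.Perm GolayPt).symm i = i := rfl
    rw [hw, AddSubgroup.coe_sub, Pi.sub_apply, coe_mono_smul]
    simp only [signedPerm, hsymm]
    split_ifs <;> ring
  have key : ∀ t : GolayPt → ℤ, (∀ i, (8 : ℤ) ∣ t i) → ∀ u ∈ leechLattice,
      (∀ i, (w : GolayPt → ℤ) i + t i = 2 * u i) → False := by
    intro t ht u hu h
    obtain ⟨n, hn', d, hd, hd4, -⟩ := exists_normal_form hu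
    have hd' : d = s ∩ C := by
      have hn0 : n = 0 := by
        have h1 := hd4 none
        have h2 := h none
        have h3 := hwv none
        have h5 := h4 none
        have h6 := ht none
        simp only [bit] at h1 h5
        split_ifs at h1 h3 h5 <;> omega
      subst hn0
      ext i
      have h1 := hd4 i
      have h2 := h i
      have h3 := hwv i
      have h5 := h4 i
      have h6 := ht i
      simp only [bit] at h1 h5
      rw [Finset.mem_inter]
      by_cases a : i ∈ d <;> by_cases b : i ∈ s <;> by_cases c : i ∈ C <;>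
        simp only [a, b, c, if_true, if_false, true_and, false_and, iff_true, iff_false, not_true_eq_false] at h1 h3 h5 ⊢ <;> omega
    exact hbad (hd' ▸ hd)
  have hw0 : ¬ Cong (w : GolayPt → ℤ) 0 := by
    rintro ⟨u, hu, e⟩
    refine key 0 (fun i => dvd_zero _) u hu fun i => ?_
    have := congrFun e i
    simpa [nsmul_eq_mul] using this
  have hwf : ¬ Cong (frame none : GolayPt → ℤ) (w : GolayPt → ℤ) := by
    rintro ⟨u, hu, e⟩
    refine key (fun i => -(frame none : GolayPt → ℤ) i) (fun i => dvd_neg.2 ?_) (-u) (neg_mem hu) fun i => ?_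
    · by_cases hi : i = none <;> simp [frame, hi]
    · have := congrFun e i
      simp only [Pi.sub_apply, Pi.smul_apply, nsmul_eq_mul, Nat.cast_ofNat, Pi.neg_apply] at this ⊢
      linarith
  obtain ⟨y', hy', hn', hwy, hy'f⟩ := rep w (hsub _ _ hy (hinv 1 C hC y hy)) hw0 hwf
  refine exists_norm32_of_four_dvd hsub (fun σ => hinv σ ∅ empty_mem_code) hy' hn' ?_ hy'f
  obtain ⟨u, hu, e⟩ := hwy
  obtain ⟨n, hn0, d, hd, hd4, -⟩ := exists_normal_form hu
  have he : ∀ i, (w : GolayPt → ℤ) i - (y' : GolayPt → ℤ) i = 2 * u i := fun i => by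
    have := congrFun e i
    simpa [nsmul_eq_mul] using this
  rcases hn0 with rfl | rfl
  · intro i
    have h1 := hd4 i
    have h2 := he i
    have h3 := hwv i
    have h5 := h4 i
    simp only [bit] at h1 h5
    split_ifs at h1 h3 h5 <;> omega
  · exfalso
    have hbig : ∑ _i : GolayPt, (4 : ℤ) ≤ ∑ i, (y' : GolayPt → ℤ) i ^ 2 :=
      Finset.sum_le_sum fun i _ => by
        have h1 := hd4 i
        have h2 := he i
        have h3 := hwv i
        have h5 := h4 i
        simp only [bit] at h1 h5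
        have hne : (y' : GolayPt → ℤ) i ≤ -2 ∨ 2 ≤ (y' : GolayPt → ℤ) i := by
          split_ifs at h1 h3 h5 <;> omega
        rcases hne with h | h <;> nlinarith
    rw [Finset.sum_const, Finset.card_univ, show ∑ i, (y' : GolayPt → ℤ) i ^ 2 = 64 from hn'] at hbig
    simp at hbig

end Cfsg.Agent.Monster39
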