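import Cfsg.Agent.Monster39.Fusion
import Cfsg.Agent.Monster39.NoFull

/-!
Squares and commutators in the extraspecial subgroup read in the lattice; fusion inside the centralizer of
an involution of the second kind.
-/
set_option autoImplicit false
set_option linter.style.haveILetI false
set_option linter.unusedSectionVars false

namespace Cfsg.Agent.Monster39

open Cfsg Cfsg.Agent.Leech
open scoped Pointwise

theorem parity_of_cong {v w : GolayPt → ℤ} (hw : w ∈ leechLattice) (h : Cong v w) :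
    (32 : ℤ) ∣ sqNorm v ↔ (32 : ℤ) ∣ sqNorm w := by
  obtain ⟨u, hu, e⟩ := h
  have e' : v = w + (u + u) := by rw [← two_nsmul, ← e, add_sub_cancel]
  obtain ⟨a, ha⟩ := sixteen_dvd_sqNorm hu
  obtain ⟨b, hb⟩ := eight_dvd_dotInt hw hu
  have hdot : dotInt w (u + u) = 2 * dotInt w u := by
    rw [dotInt_comm, dotInt_add_left', dotInt_comm u w]; ring
  rw [e', sqNorm_add, sqNorm_add, hdot, dotInt_self, ha, hb]
  constructor <;> intro h <;> omega

variable {G : Type*} [Group G] [Finite G] {z : G}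
  {Q : Subgroup (Subgroup.centralizer ({z} : Set G))} [Q.Normal]
  {e : (Subgroup.centralizer ({z} : Set G)) ⧸ Q ≃* Spor.Co1}
  {ψ : leechLattice → Q ⧸ Subgroup.center Q}

namespace Setting

variable (M : Setting z Q e ψ)
include M

/-- Moving the identification by an automorphism of the lattice. -/
theorem twist (a : Co0) :
    Setting z Q (e.trans (MulAut.conj (QuotientGroup.mk a⁻¹ : Spor.Co1))) (fun v => ψ (a • v)) := by
  obtain ⟨hadd, hsurj, hker, hequiv⟩ := M.hψ
  refine ⟨M.hS, fun v w => ?_, fun q => ?_, fun v => ?_, fun h g hg v q hq => ?_⟩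
  · show ψ (a • (v + w)) = _
    rw [smul_add', hadd]
  · obtain ⟨v, hv⟩ := hsurj q
    exact ⟨a⁻¹ • v, by show ψ (a • (a⁻¹ • v)) = q; rw [smul_inv_smul, hv]⟩
  · show ψ (a • v) = 1 ↔ _
    rw [hker]
    constructor
    · rintro ⟨w, hw⟩
      exact ⟨a⁻¹ • w, by rw [← smul_add', ← hw, inv_smul_smul]⟩
    · rintro ⟨w, hw⟩
      exact ⟨a • w, by rw [← smul_add', hw]⟩
  · show ψ (a • (g • v)) = _
    have hg' : (QuotientGroup.mk (a * g * a⁻¹) : Spor.Co1) = e (QuotientGroup.mk h) := by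
      rw [QuotientGroup.mk_mul, QuotientGroup.mk_mul, hg, QuotientGroup.mk_inv]
      simp [mul_assoc]
    have := hequiv h (a * g * a⁻¹) hg' (a • v) q hq
    rwa [mul_smul, mul_smul, inv_smul_smul] at this

theorem dvd32_iff {q : Q} (hq : q ∉ Subgroup.center Q) {v : leechLattice}
    (hv : ψ v = QuotientGroup.mk q) :
    (32 : ℤ) ∣ sqNorm (v : GolayPt → ℤ) ↔ Cls ψ 32 q ∨ Cls ψ 64 q := by
  obtain ⟨n, hn, w, hw, hwq⟩ : ∃ n, (n = 32 ∨ n = 48 ∨ n = 64) ∧ Cls ψ n q := by
    rcases M.cls_cases hq with h | h | h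
    · exact ⟨32, by norm_num, h⟩
    · exact ⟨48, by norm_num, h⟩
    · exact ⟨64, by norm_num, h⟩
  rw [parity_of_cong w.2 ((M.map_eq_iff v w).1 (hv.trans hwq.symm)), hw]
  rcases hn with rfl | rfl | rfl
  · exact iff_of_true (dvd_refl _) (Or.inl ⟨w, hw, hwq⟩)
  · refine iff_of_false (by norm_num) ?_
    rintro (h | h) <;> have := M.cls_unique (by norm_num) (by norm_num) h ⟨w, hw, hwq⟩ <;> norm_num at this
  · exact iff_of_true (by norm_num) (Or.inr ⟨w, hw, hwq⟩)

theorem sq_of_32 {t : Q} (ht : Cls ψ 32 t) (ht2 : t * t = 1) {q : Q} (hq : Cls ψ 32 q) : q * q = 1 := by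
  obtain ⟨h, rfl⟩ := M.transitive (by norm_num) ht hq
  apply Subtype.ext
  have ht' : (t : Subgroup.centralizer ({z} : Set G)) * t = 1 := congrArg Subtype.val ht2
  show h * t * h⁻¹ * (h * t * h⁻¹) = 1
  calc _ = h * ((t : Subgroup.centralizer ({z} : Set G)) * t) * h⁻¹ := by group
    _ = 1 := by rw [ht']; group

theorem sq_of_64 {q : Q} (hq : Cls ψ 64 q) : q * q = 1 := by
  obtain ⟨a, ha⟩ := isConj_iff.1 ((M.isConj_iff_cls q).2 hq).1
  apply Subtype.ext; apply Subtype.ext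
  show ((q : Subgroup.centralizer ({z} : Set G)) : G) * _ = 1
  rw [← ha, show a * z * a⁻¹ * (a * z * a⁻¹) = a * (z * z) * a⁻¹ by group, M.zz_eq]
  group

theorem sq_iff {t : Q} (ht : Cls ψ 32 t) (ht2 : t * t = 1) {q : Q} {v : leechLattice}
    (hv : ψ v = QuotientGroup.mk q) : q * q = 1 ↔ (32 : ℤ) ∣ sqNorm (v : GolayPt → ℤ) := by
  by_cases hq : q ∈ Subgroup.center Q
  · refine iff_of_true ?_ ?_
    · rcases M.mem_center_iff.1 hq with rfl | rfl
      · exact mul_one 1
      · exact M.zQ_sq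
    · obtain ⟨w, hw, hwq⟩ := M.cls_zero_iff.2 hq
      rw [parity_of_cong w.2 ((M.map_eq_iff v w).1 (hv.trans hwq.symm)), hw]
      norm_num
  · rw [M.dvd32_iff hq hv]
    exact ⟨M.cls_of_sq hq, fun h => h.elim (M.sq_of_32 ht ht2) M.sq_of_64⟩

theorem mul_self_mul (q r : Q) :
    (q * r = r * q → q * r * (q * r) = q * q * (r * r)) ∧
      (q * r = r * q * M.zQ → q * r * (q * r) = q * q * (r * r) * M.zQ) := by
  constructor
  · intro h
    calc q * r * (q * r) = q * (r * q) * r := by group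
      _ = q * (q * r) * r := by rw [h]
      _ = _ := by group
  · intro h
    have h' : r * q = q * r * M.zQ := by rw [h, mul_assoc, M.zQ_sq, mul_one]
    calc q * r * (q * r) = q * (r * q) * r := by group
      _ = q * (q * r * M.zQ) * r := by rw [h']
      _ = q * q * r * (M.zQ * r) := by group
      _ = q * q * r * (r * M.zQ) := by rw [M.zQ_central]
      _ = _ := by group

theorem commute_iff {t : Q} (ht : Cls ψ 32 t) (ht2 : t * t = 1) {q r : Q} {v w : leechLattice}
    (hv : ψ v = QuotientGroup.mk q) (hw : ψ w = QuotientGroup.mk r) :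
    q * r = r * q ↔ (16 : ℤ) ∣ dotInt (v : GolayPt → ℤ) (w : GolayPt → ℤ) := by
  have h1 := M.sq_iff ht ht2 hv
  have h2 := M.sq_iff ht ht2 hw
  have hvw : ψ (v + w) = QuotientGroup.mk (q * r) := by rw [M.hψ.1, hv, hw, QuotientGroup.mk_mul]
  have h3 := M.sq_iff ht ht2 hvw
  rw [AddSubgroup.coe_add, sqNorm_add] at h3
  obtain ⟨a, ha⟩ := sixteen_dvd_sqNorm v.2
  obtain ⟨b, hb⟩ := sixteen_dvd_sqNorm w.2
  obtain ⟨d, hd⟩ := eight_dvd_dotInt v.2 w.2
  rw [ha, hb, hd] at h3
  rw [ha] at h1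
  rw [hb] at h2
  rw [hd]
  rcases M.qdata.squares q with hq | hq <;> rcases M.qdata.squares r with hr | hr <;>
    rcases M.qdata.comm q r with hc | hc
  all_goals
    first
      | have he := (M.mul_self_mul q r).1 hc
      | have he := (M.mul_self_mul q r).2 hc
    rw [hq, hr] at he
    simp only [one_mul, mul_one, M.zQ_sq] at he
    rw [he] at h3
    rw [hq] at h1
    rw [hr] at h2
    simp only [M.zQ_ne_one, true_iff, false_iff] at h1 h2 h3
    first
      | exact iff_of_true hc (by omega)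
      | refine iff_of_false (fun hh => ?_) (by omega)
        rw [hc] at hh
        exact M.zQ_ne_one (mul_left_cancel (hh.trans (mul_one _).symm))

theorem exists_32_in_inf {t : Q} (ht : Cls ψ 32 t) (ht2 : t * t = 1) {x : Q} {g : G}
    (hg : g * z * g⁻¹ = ((x : Subgroup.centralizer ({z} : Set G)) : G)) (hne : x ≠ M.zQ) :
    ∃ q : Q, (q : Subgroup.centralizer ({z} : Set G)) ∈ conjPart Q g ∧ Cls ψ 32 q := by
  classical
  by_contra hno
  push Not at hno
  have F := M.fused hg hne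
  have hxc := (M.not_center_of_conj hg hne).1
  obtain ⟨v₀, hv₀, hv₀x⟩ := F.cls
  obtain ⟨a, ha⟩ := transitive_64 codeUnique (sqNorm_frame none) hv₀
  have M' := M.twist a
  set ψ' : leechLattice → Q ⧸ Subgroup.center Q := fun v => ψ (a • v) with hψ'
  have hfr : ψ' (frame none) = QuotientGroup.mk x := by show ψ (a • frame none) = _; rw [ha, hv₀x]
  have hcls : ∀ (n : ℤ) (q : Q), Cls ψ' n q → Cls ψ n q := fun n q ⟨v, hv, hq⟩ =>
    ⟨a • v, (sqNorm_smul a v).trans hv, hq⟩
  let P : leechLattice → Prop := fun v =>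
    ∃ q : Q, (q : Subgroup.centralizer ({z} : Set G)) ∈ conjPart Q g ∧ ψ' v = QuotientGroup.mk q
  have hsq : ∀ q : Q, (q : Subgroup.centralizer ({z} : Set G)) ∈ conjPart Q g → q * q = 1 := by
    intro q hq
    obtain ⟨r, hr⟩ := mem_conjPart.1 hq
    rcases M.qdata.squares q with h | h
    · exact h
    · exfalso
      have h1 : g * (((r * r : Q) : Subgroup.centralizer ({z} : Set G)) : G) * g⁻¹ = z := by
        have h2 := congrArg (fun u : Q => ((u : Subgroup.centralizer ({z} : Set G)) : G)) h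
        simp only [Subgroup.coe_mul, ← hr] at h2
        refine Eq.trans ?_ h2
        simp only [Subgroup.coe_mul]
        group
      rcases M.qdata.squares r with h2 | h2 <;> rw [h2] at h1
      · exact M.zQ_ne_one (Subtype.ext (Subtype.ext (show z = 1 by simpa using h1.symm)))
      · exact hne (Subtype.ext (Subtype.ext (hg.symm.trans h1)))
  obtain ⟨q₀, hq₀, hq₀n⟩ : ∃ q : Q, (q : Subgroup.centralizer ({z} : Set G)) ∈ conjPart Q g ∧
      (QuotientGroup.mk q : Q ⧸ Subgroup.center Q) ≠ 1 ∧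
      (QuotientGroup.mk q : Q ⧸ Subgroup.center Q) ≠ QuotientGroup.mk x := by
    by_contra hcon
    push Not at hcon
    have hsub : ((conjPart Q g ⊓ Q : Subgroup _) : Set (Subgroup.centralizer ({z} : Set G))) ⊆
        Subtype.val '' ({1, M.zQ, x, x * M.zQ} : Set Q) := by
      rintro c ⟨hc1, hc2⟩
      refine ⟨⟨c, hc2⟩, ?_, rfl⟩
      by_cases h1 : (QuotientGroup.mk (⟨c, hc2⟩ : Q) : Q ⧸ Subgroup.center Q) = 1
      · rcases M.mem_center_iff.1 ((QuotientGroup.eq_one_iff _).1 h1) with h | h <;> simp [h]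
      · rcases M.mk_eq_mk.1 (hcon ⟨c, hc2⟩ hc1 h1).symm with h | h <;> simp [h]
    have h1 := Set.ncard_le_ncard hsub (Set.toFinite _)
    rw [← Nat.card_coe_set_eq] at h1
    have h2 := (Set.ncard_image_le (f := Subtype.val) (Set.toFinite ({1, M.zQ, x, x * M.zQ} : Set Q)))
    have h3 : ({1, M.zQ, x, x * M.zQ} : Set Q).ncard ≤ 4 := by
      refine (Set.ncard_insert_le _ _).trans (Nat.succ_le_succ ?_)
      refine (Set.ncard_insert_le _ _).trans (Nat.succ_le_succ ?_)
      exact (Set.ncard_insert_le _ _).trans (by simp)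
    have h4 : Nat.card ↥((conjPart Q g ⊓ Q : Subgroup _) : Set (Subgroup.centralizer ({z} : Set G))) = 2 ^ 13 :=
      F.card_inf
    rw [h4] at h1
    omega
  obtain ⟨v, hv⟩ := M'.hψ.2.1 (QuotientGroup.mk q₀)
  have hx0 : ∀ w : leechLattice, ψ' w = 1 ↔ Cong (w : GolayPt → ℤ) 0 := fun w => by
    have h := M'.map_eq_iff w 0
    rw [M'.map_zero] at h
    simpa using h
  obtain ⟨w, ⟨q, hq, hwq⟩, hw⟩ := exists_norm32 (P := P)
    (fun v w hvw ⟨q, hq, h⟩ => ⟨q, hq, ((M'.map_eq_iff v w).2 hvw).symm.trans h⟩)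
    (fun v w ⟨q, hq, h⟩ ⟨r, hr, h'⟩ => ⟨q * r⁻¹, mul_mem hq (inv_mem hr), by
      rw [QuotientGroup.mk_mul, QuotientGroup.mk_inv, ← h, ← h', eq_mul_inv_iff_mul_eq, ← M'.hψ.1,
        sub_add_cancel]⟩)
    (fun σ c hc v ⟨q, hq, h⟩ => by
      have hfix : ψ' (mono σ hc • frame none) = QuotientGroup.mk x := by
        rw [← hfr, M'.map_eq_iff]
        refine Cong.symm ((stdCross_subset _ ⟨σ.1 none, _, ?_, coe_mono_frame σ hc none⟩).2.2)
        split_ifs <;> simp
      obtain ⟨k, hk, hkx⟩ := M'.conj_of_smul hxc hfr hfix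
      have hkL : k ∈ Subgroup.centralizer ({(x : Subgroup.centralizer ({z} : Set G))} :
          Set (Subgroup.centralizer ({z} : Set G))) :=
        Subgroup.mem_centralizer_singleton_iff.2 (mul_inv_eq_iff_eq_mul.1 (congrArg Subtype.val hkx))
      exact ⟨cj k q, F.normal k hkL q hq, M'.hψ.2.2.2 k (mono σ hc) hk.symm v q h⟩)
    (fun v ⟨q, hq, h⟩ => by
      have hcomm : q * x = x * q :=
        Subtype.ext (Subgroup.mem_centralizer_singleton_iff.1 (F.le hq))
      have ht' : Cls ψ' 32 t := by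
        obtain ⟨u, hu, hut⟩ := ht
        exact ⟨a⁻¹ • u, (sqNorm_smul _ u).trans hu, by show ψ (a • (a⁻¹ • u)) = _; rw [smul_inv_smul, hut]⟩
      have hd := (M'.commute_iff ht' ht2 h hfr).1 hcomm
      rw [dotInt_comm] at hd
      change (16 : ℤ) ∣ dotInt (Pi.single none 8) (v : GolayPt → ℤ) at hd
      rw [dotInt_single_left] at hd
      omega)
    (fun v ⟨q, hq, h⟩ => by
      by_cases hc : q ∈ Subgroup.center Q
      · exact Or.inl ((hx0 v).1 (h.trans ((QuotientGroup.eq_one_iff _).2 hc)))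
      · rcases M'.cls_of_sq hc (hsq q hq) with h1 | ⟨w, hw, hwq⟩
        · exact absurd (hcls 32 q h1) (hno q hq)
        · exact Or.inr (Or.inr ⟨w, hw, (M'.map_eq_iff v w).1 (h.trans hwq.symm)⟩))
    (v := v) ⟨q₀, hq₀, hv⟩
    (fun hc => hq₀n.1 (hv.symm.trans ((hx0 v).2 hc)))
    (fun hc => hq₀n.2 (hv.symm.trans (((M'.map_eq_iff _ _).2 hc).symm.trans hfr)))
  exact hno q hq (hcls 32 q ⟨w, hw, hwq⟩)

theorem not_conj_of_32 {q : Q} (hq : Cls ψ 32 q) :
    ¬ IsConj z ((q : Subgroup.centralizer ({z} : Set G)) : G) := by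
  intro h
  by_cases hqz : ((q : Subgroup.centralizer ({z} : Set G)) : G) = z
  · exact M.not_mem_center (by norm_num) (by norm_num) hq
      (M.mem_center_iff.2 (Or.inr (Subtype.ext (Subtype.ext hqz))))
  · have := M.cls_unique (by norm_num) (by norm_num) hq ((M.isConj_iff_cls q).1 ⟨h, hqz⟩)
    norm_num at this

/-- Some element centralizing `t` moves `z` to another element of `Q`. -/
theorem exists_fusion_cent {t : Q} (ht : Cls ψ 32 t) (ht2 : t * t = 1) :
    ∃ (g : G) (s : Q), g * ((t : Subgroup.centralizer ({z} : Set G)) : G) * g⁻¹ =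
        ((t : Subgroup.centralizer ({z} : Set G)) : G) ∧
      g * z * g⁻¹ = ((s : Subgroup.centralizer ({z} : Set G)) : G) ∧ Cls ψ 64 s := by
  obtain ⟨g₀, ⟨ha, hmem⟩, hane⟩ := M.hS.2.2.2.2
  let x : Q := ⟨⟨g₀ * z * g₀⁻¹, ha⟩, hmem⟩
  have hne : x ≠ M.zQ := (M.ne_zQ_iff x).2 hane
  obtain ⟨q, hqB, hq⟩ := M.exists_32_in_inf ht ht2 (x := x) rfl hne
  obtain ⟨r, hr⟩ := mem_conjPart.1 hqB
  have hr2 : r * r = 1 := by
    apply Subtype.ext; apply Subtype.ext
    have h := congrArg (fun u : Q => ((u : Subgroup.centralizer ({z} : Set G)) : G)) (M.sq_of_32 ht ht2 hq)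
    simp only [Subgroup.coe_mul, ← hr] at h
    calc ((r : Subgroup.centralizer ({z} : Set G)) : G) * _ = g₀⁻¹ * (g₀ * ((r : Subgroup.centralizer ({z} : Set G)) : G) * g₀⁻¹ * (g₀ * ((r : Subgroup.centralizer ({z} : Set G)) : G) * g₀⁻¹)) * g₀ := by group
      _ = 1 := by rw [h]; simp
  have hnc : ¬ IsConj z ((r : Subgroup.centralizer ({z} : Set G)) : G) := fun h =>
    M.not_conj_of_32 hq (h.trans (isConj_iff.2 ⟨g₀, hr⟩))
  have hrc : r ∉ Subgroup.center Q := by
    intro h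
    rcases M.mem_center_iff.1 h with rfl | rfl
    · exact M.not_mem_center (by norm_num) (by norm_num) hq
        (M.mem_center_iff.2 (Or.inl (Subtype.ext (Subtype.ext (by rw [← hr]; simp)))))
    · exact hnc (IsConj.refl z)
  have hr32 : Cls ψ 32 r := (M.cls_of_sq hrc hr2).resolve_right fun h => hnc ((M.isConj_iff_cls r).2 h).1
  obtain ⟨c, hc⟩ := M.transitive (by norm_num) ht hr32
  obtain ⟨d, hd⟩ := M.transitive (by norm_num) hq ht
  have hc' : (c : G) * ((t : Subgroup.centralizer ({z} : Set G)) : G) * (c : G)⁻¹ =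
      ((r : Subgroup.centralizer ({z} : Set G)) : G) :=
    congrArg (fun u : Q => ((u : Subgroup.centralizer ({z} : Set G)) : G)) hc
  have hd' : (d : G) * ((q : Subgroup.centralizer ({z} : Set G)) : G) * (d : G)⁻¹ =
      ((t : Subgroup.centralizer ({z} : Set G)) : G) :=
    congrArg (fun u : Q => ((u : Subgroup.centralizer ({z} : Set G)) : G)) hd
  refine ⟨(d : G) * g₀ * c, cj d x, ?_, ?_, M.cls_cj d (M.fused (x := x) rfl hne).cls⟩
  · calc (d : G) * g₀ * c * ((t : Subgroup.centralizer ({z} : Set G)) : G) * ((d : G) * g₀ * c)⁻¹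
        = d * (g₀ * ((c : G) * ((t : Subgroup.centralizer ({z} : Set G)) : G) * (c : G)⁻¹) * g₀⁻¹) * (d : G)⁻¹ := by group
      _ = d * ((q : Subgroup.centralizer ({z} : Set G)) : G) * (d : G)⁻¹ := by rw [hc', hr]
      _ = _ := hd'
  · have hcz : (c : G) * z * (c : G)⁻¹ = z := by
      rw [Subgroup.mem_centralizer_singleton_iff.1 c.2, mul_inv_cancel_right]
    calc (d : G) * g₀ * c * z * ((d : G) * g₀ * c)⁻¹ = d * (g₀ * ((c : G) * z * (c : G)⁻¹) * g₀⁻¹) * (d : G)⁻¹ := by group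
      _ = d * (g₀ * z * g₀⁻¹) * (d : G)⁻¹ := by rw [hcz]
      _ = _ := rfl

end Setting

end Cfsg.Agent.Monster39
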