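import Cfsg.Agent.Monster39.Setting
import Cfsg.Agent.Lib.Coprime.Action

/-!
Fusion of the central involution in the extraspecial subgroup of a group of Monster type.
-/
set_option autoImplicit false
set_option linter.style.haveILetI false
set_option linter.unusedSectionVars false

namespace Cfsg.Agent.Monster39

open Cfsg
open scoped Pointwise

/-- A subgroup of Co1 of order prime to 23, invariant under an element of order 23, has order 1 modulo 23. -/
theorem card_mod_of_invariant {X : Spor.Co1} (hX : orderOf X = 23) {H : Subgroup Spor.Co1}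
    (hinv : ∀ h ∈ H, X * h * X⁻¹ ∈ H) (hcop : ¬ 23 ∣ Nat.card H) : Nat.card H % 23 = 1 := by
  haveI := finiteCo1
  have hpow : ∀ a ∈ Subgroup.zpowers X, ∀ h ∈ H, a * h * a⁻¹ ∈ H := by
    intro a ha
    have hle : Subgroup.zpowers X ≤ Subgroup.normalizer (H : Set Spor.Co1) := by
      rw [Subgroup.zpowers_le]
      refine Subgroup.mem_normalizer_iff_map_conj_eq.2 (Subgroup.eq_of_le_of_card_ge ?_ ?_)
      · rintro _ ⟨h, hh, rfl⟩
        exact hinv h hh
      · exact (Nat.card_congr (Subgroup.equivMapOfInjective _ _ (MulAut.conj X).injective).toEquiv).le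
    exact fun h hh => (Subgroup.mem_normalizer_iff.1 (hle ha) h).1 hh
  letI : MulAction (Subgroup.zpowers X) H :=
    { smul := fun a h => ⟨a * h * (a : Spor.Co1)⁻¹, hpow a a.2 h h.2⟩
      one_smul := fun h => Subtype.ext (by
        show (1 : Spor.Co1) * h * (1 : Spor.Co1)⁻¹ = h
        group)
      mul_smul := fun a b h => Subtype.ext (by
        show (a * b : Spor.Co1) * h * (a * b : Spor.Co1)⁻¹ = a * (b * h * (b : Spor.Co1)⁻¹) * (a : Spor.Co1)⁻¹
        group) }
  have hp : IsPGroup 23 (Subgroup.zpowers X) :=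
    IsPGroup.of_card (n := 1) (by rw [Nat.card_zpowers, hX, pow_one])
  have h := hp.card_modEq_card_fixedPoints H
  have hfix : MulAction.fixedPoints (Subgroup.zpowers X) H = {1} := by
    ext h
    constructor
    · intro hh
      have e := congrArg Subtype.val (hh ⟨X, Subgroup.mem_zpowers X⟩)
      change X * h * X⁻¹ = h at e
      have h23 := Co1_pow_eq_one_of_commute hX (Y := h) (mul_inv_eq_iff_eq_mul.1 e).symm
      by_contra hne
      apply hcop
      have ho : orderOf (h : Spor.Co1) = 23 := orderOf_eq_prime h23 fun e1 => hne (Subtype.ext e1)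
      exact ho ▸ Subgroup.orderOf_dvd_natCard H h.2
    · rintro rfl a
      apply Subtype.ext
      show (a : Spor.Co1) * 1 * (a : Spor.Co1)⁻¹ = 1
      group
  rw [hfix, Nat.card_coe_set_eq, Set.ncard_singleton] at h
  exact h

theorem card_mulAut_dvd {T : Type*} [CommGroup T] [Finite T] (h2 : ∀ t : T, t ^ 2 = 1) {n : ℕ}
    (hc : Nat.card T = 2 ^ n) : Nat.card (MulAut T) ∣ Nat.card (GL (Fin n) (ZMod 2)) := by
  letI : Module (ZMod 2) (Additive T) := AddCommGroup.zmodModule fun x => h2 x.toMul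
  have hd : Module.finrank (ZMod 2) (Additive T) = n := by
    have h := Module.natCard_eq_pow_finrank (K := ZMod 2) (V := Additive T)
    rw [Nat.card_zmod, show Nat.card (Additive T) = Nat.card T from rfl, hc] at h
    exact (Nat.pow_right_injective (le_refl 2) h).symm
  let b := Module.finBasisOfFinrankEq (ZMod 2) (Additive T) hd
  let f : MulAut T →* Module.End (ZMod 2) (Additive T) :=
    { toFun := fun a => (MonoidHom.toAdditive a.toMonoidHom).toZModLinearMap 2
      map_one' := LinearMap.ext fun _ => rfl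
      map_mul' := fun _ _ => LinearMap.ext fun _ => rfl }
  let m : Module.End (ZMod 2) (Additive T) →* Matrix (Fin n) (Fin n) (ZMod 2) :=
    (LinearMap.toMatrixAlgEquiv b).toAlgHom.toRingHom.toMonoidHom
  refine Subgroup.card_dvd_of_injective ((m.comp f).toHomUnits) fun a a' h => ?_
  have h1 : m (f a) = m (f a') := congrArg Units.val h
  have h2 : f a = f a' := (LinearMap.toMatrixAlgEquiv b).injective h1
  exact MulEquiv.ext fun t => Additive.ofMul.injective (LinearMap.congr_fun h2 (Additive.ofMul t))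

theorem not_125_dvd_GL : ¬ 5 ^ 3 ∣ Nat.card (GL (Fin 11) (ZMod 2)) := by
  rw [Matrix.card_GL_field, ZMod.card]
  norm_num [Fin.prod_univ_succ]

theorem card_map_mul_inf_ker {A B : Type*} [Group A] [Group B] (f : A →* B) (H : Subgroup A) :
    Nat.card (H.map f) * Nat.card (H ⊓ f.ker : Subgroup A) = Nat.card H := by
  have h := Subgroup.card_eq_card_quotient_mul_card_subgroup (f.comp H.subtype).ker
  rw [Nat.card_congr (QuotientGroup.quotientKerEquivRange (f.comp H.subtype)).toEquiv,
    MonoidHom.range_comp, Subgroup.range_subtype] at h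
  rw [h]
  congr 1
  have e : (f.comp H.subtype).ker.map H.subtype = H ⊓ f.ker := by
    rw [← MonoidHom.comap_ker, Subgroup.map_comap_eq, Subgroup.range_subtype]
  rw [← e]
  exact Nat.card_congr (Subgroup.equivMapOfInjective _ _ H.subtype_injective).toEquiv.symm

theorem false_of_125 {P0 T : Subgroup Spor.Co1} {X₀ : Spor.Co1} (hXmem : X₀ ∈ P0) (hXo : orderOf X₀ = 23)
    (hproj_norm : ∀ a ∈ P0, ∀ t ∈ T, a * t * a⁻¹ ∈ T) (hcomm : ∀ a ∈ T, ∀ b ∈ T, a * b = b * a)
    (hsq : ∀ a ∈ T, a ^ 2 = 1) (hT1 : T ≠ ⊥) (hj : Nat.card T = 2 ^ 11)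
    (h125 : 5 ^ 3 ∣ Nat.card P0) : False := by
  haveI := finiteCo1
  let X : P0 := ⟨X₀, hXmem⟩
  let f : P0 →* MulAut T :=
    (Subgroup.normalizerMonoidHom T).comp (Subgroup.inclusion fun a ha =>
      Subgroup.mem_normalizer_iff.2 fun t => ⟨hproj_norm a ha t, fun h => by
        simpa [mul_assoc] using hproj_norm a⁻¹ (inv_mem ha) _ h⟩)
  letI : CommGroup T := { (inferInstance : Group T) with
    mul_comm := fun a b => Subtype.ext (hcomm a a.2 b b.2) }
  have hr : Nat.card f.range ∣ Nat.card (GL (Fin 11) (ZMod 2)) :=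
    (Subgroup.card_subgroup_dvd_card _).trans (card_mulAut_dvd (fun t => Subtype.ext (hsq t t.2)) hj)
  have h5 : 5 ∣ Nat.card f.ker := by
    have hc := Subgroup.card_eq_card_quotient_mul_card_subgroup f.ker
    rw [Nat.card_congr (QuotientGroup.quotientKerEquivRange f).toEquiv] at hc
    by_contra h
    have hcop : Nat.Coprime (5 ^ 3) (Nat.card f.ker) :=
      Nat.Coprime.pow_left 3 ((Nat.Prime.coprime_iff_not_dvd (by norm_num)).2 h)
    exact not_125_dvd_GL ((hcop.dvd_of_dvd_mul_right (hc ▸ h125)).trans hr)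
  set N := P0 ⊓ Subgroup.centralizer (T : Set Spor.Co1) with hN
  have hNk : Nat.card f.ker = Nat.card N := by
    rw [show f.ker = N.subgroupOf P0 from ?_]
    · exact Nat.card_congr (Subgroup.subgroupOfEquivOfLe inf_le_left).toEquiv
    · ext a
      simp [f, hN, Subgroup.mem_subgroupOf, ← MonoidHom.comap_ker, Subgroup.normalizerMonoidHom_ker]
  have h23N : ¬ 23 ∣ Nat.card N := by
    intro h
    obtain ⟨y', hy'⟩ := exists_prime_orderOf_dvd_card' 23 h
    obtain ⟨t, ht, ht1⟩ := T.bot_or_exists_ne_one.resolve_left hT1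
    have h23 := Co1_pow_eq_one_of_commute (by rw [Subgroup.orderOf_coe, hy'])
      (X := (y' : Spor.Co1)) (Y := t) (Subgroup.mem_centralizer_iff.1 y'.2.2 t ht)
    rw [show (23 : ℕ) = 2 * 11 + 1 from rfl, pow_succ, pow_mul, hsq t ht, one_pow, one_mul] at h23
    exact ht1 h23
  have hXN : Subgroup.zpowers (X : Spor.Co1) ≤ Subgroup.normalizer (N : Set Spor.Co1) := by
    rw [Subgroup.zpowers_le]
    have hcl : ∀ a ∈ P0, ∀ c ∈ N, a * c * a⁻¹ ∈ N := by
      intro a ha c hc
      obtain ⟨hc1, hc2⟩ := Subgroup.mem_inf.1 hc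
      refine Subgroup.mem_inf.2 ⟨mul_mem (mul_mem ha hc1) (inv_mem ha), Subgroup.mem_centralizer_iff.2 fun t ht => ?_⟩
      have h1 := Subgroup.mem_centralizer_iff.1 hc2 _ (hproj_norm a⁻¹ (inv_mem ha) t ht)
      rw [inv_inv] at h1
      calc t * (a * c * a⁻¹) = a * (a⁻¹ * t * a * c) * a⁻¹ := by group
        _ = a * (c * (a⁻¹ * t * a)) * a⁻¹ := by rw [h1]
        _ = _ := by group
    exact Subgroup.mem_normalizer_iff.2 fun c => ⟨hcl X X.2 c, fun h => by
      simpa [mul_assoc] using hcl (X : Spor.Co1)⁻¹ (inv_mem X.2) _ h⟩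
  haveI : Fact (Nat.Prime 5) := ⟨by norm_num⟩
  obtain ⟨P, hPn⟩ := Coprime.exists_invariant_sylow (Subgroup.zpowers (X : Spor.Co1)) N hXN
    (by rw [Nat.card_zpowers, hXo]; exact (Nat.Prime.coprime_iff_not_dvd (by norm_num)).2 h23N)
    (Or.inl inferInstance) 5
  set P' := (P : Subgroup N).map N.subtype with hP'
  obtain ⟨i, hi⟩ := IsPGroup.iff_card.1 (P.2.map N.subtype)
  rw [← hP'] at hi
  have hi4 : i ≤ 4 := by
    by_contra hcon
    have hd : 5 ^ 5 ∣ Nat.card Spor.Co1 :=
      (pow_dvd_pow 5 (show 5 ≤ i by omega)).trans (hi ▸ Subgroup.card_subgroup_dvd_card P')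
    rw [card_Co1] at hd
    norm_num at hd
  have hi1 : i ≠ 0 := fun h => by
    have h1 : 5 ∣ Nat.card P := P.dvd_card_of_dvd_card (hNk ▸ h5)
    rw [show Nat.card (P : Subgroup N) = Nat.card P' from
      Nat.card_congr (Subgroup.equivMapOfInjective _ _ N.subtype_injective).toEquiv, hi, h] at h1
    norm_num at h1
  have hm := card_mod_of_invariant hXo (H := P')
    (fun t ht => (Subgroup.mem_normalizer_iff.1 (hPn (Subgroup.mem_zpowers _)) t).1 ht)
    (fun h => h23N (h.trans (Subgroup.card_dvd_of_le (Subgroup.map_subtype_le _))))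
  rw [hi] at hm
  interval_cases i <;> simp_all

theorem card_of_invariant {T : Subgroup Spor.Co1} {X : Spor.Co1} (hXo : orderOf X = 23)
    (hinv : ∀ t ∈ T, X * t * X⁻¹ ∈ T) (hT1 : T ≠ ⊥) (hd : Nat.card T ∣ 2 ^ 24) :
    Nat.card T = 2 ^ 11 := by
  haveI := finiteCo1
  obtain ⟨j, -, hj⟩ := (Nat.dvd_prime_pow Nat.prime_two).1 hd
  have hj0 : 0 < j := Nat.pos_of_ne_zero fun h =>
    hT1 (Subgroup.eq_bot_of_card_eq _ (by rw [hj, h, pow_zero]))
  have hj21 : j ≤ 21 := by
    by_contra hcon
    have hd : 2 ^ 22 ∣ Nat.card Spor.Co1 :=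
      (pow_dvd_pow 2 (show 22 ≤ j by omega)).trans (hj ▸ Subgroup.card_subgroup_dvd_card T)
    rw [card_Co1] at hd
    norm_num at hd
  have hmod := card_mod_of_invariant hXo hinv (by
    rw [hj]; intro h
    have := (Nat.prime_dvd_prime_iff_eq (by norm_num : Nat.Prime 23) Nat.prime_two).1
      ((by norm_num : Nat.Prime 23).dvd_of_dvd_pow h)
    omega)
  rw [hj] at hmod
  rw [hj]
  interval_cases j <;> simp_all

variable {G : Type*} [Group G] [Finite G] {z : G}
  {Q : Subgroup (Subgroup.centralizer ({z} : Set G))} [Q.Normal]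
  {e : (Subgroup.centralizer ({z} : Set G)) ⧸ Q ≃* Spor.Co1}
  {ψ : leechLattice → Q ⧸ Subgroup.center Q}

/-- The part in the centralizer of a conjugate of `Q`. -/
def conjPart (Q : Subgroup (Subgroup.centralizer ({z} : Set G))) (g : G) :
    Subgroup (Subgroup.centralizer ({z} : Set G)) :=
  (((Q.map (Subgroup.centralizer ({z} : Set G)).subtype).map (MulAut.conj g).toMonoidHom) ⊓
    Subgroup.centralizer ({z} : Set G)).subgroupOf (Subgroup.centralizer ({z} : Set G))

theorem mem_conjPart {g : G} {h : Subgroup.centralizer ({z} : Set G)} :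
    h ∈ conjPart Q g ↔ ∃ r : Q, g * ((r : Subgroup.centralizer ({z} : Set G)) : G) * g⁻¹ = h := by
  rw [conjPart, Subgroup.mem_subgroupOf, Subgroup.mem_inf]
  constructor
  · rintro ⟨⟨_, ⟨r, hr, rfl⟩, e⟩, -⟩
    exact ⟨⟨r, hr⟩, e⟩
  · rintro ⟨r, e⟩
    exact ⟨⟨_, ⟨r, r.2, rfl⟩, e⟩, h.2⟩

namespace Setting

variable (M : Setting z Q e ψ)
include M

theorem card_centQ {x : Q} (hx : x ∉ Subgroup.center Q) :
    Nat.card (Subgroup.centralizer ({x} : Set Q)) = 2 ^ 24 := by
  have hi : (Subgroup.centralizer ({x} : Set Q)).index = 2 := by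
    obtain ⟨a, ha⟩ : ∃ a : Q, a * x ≠ x * a := by
      simpa [Subgroup.mem_center_iff] using hx
    have ha' := M.qdata.commute_or ha
    rw [Subgroup.index_eq_two_iff]
    refine ⟨a, fun b => ?_⟩
    simp only [Subgroup.mem_centralizer_singleton_iff]
    by_cases hb : b * x = x * b
    · refine Or.inr ⟨hb, fun h => ha ?_⟩
      have h1 : b * (a * x) = b * (x * a) := by rw [← mul_assoc, h, ← mul_assoc, ← mul_assoc, hb]
      exact mul_left_cancel h1
    · refine Or.inl ⟨?_, hb⟩
      rw [mul_assoc b a x, ha', ← mul_assoc, ← mul_assoc, M.qdata.commute_or hb,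
        mul_assoc (x * b) M.zQ a, ← M.zQ_central a, ← mul_assoc, mul_assoc (x * b * a), M.zQ_sq,
        mul_one, mul_assoc]
  have h := (Subgroup.centralizer ({x} : Set Q)).card_mul_index
  rw [hi, M.card_Q] at h
  omega

theorem card_C : Nat.card (Subgroup.centralizer ({z} : Set G)) = 2 ^ 25 * Nat.card Spor.Co1 := by
  have h := Subgroup.card_eq_card_quotient_mul_card_subgroup Q
  rw [Nat.card_congr e.toEquiv, M.card_Q] at h
  rw [h, mul_comm]

theorem card_cent {x : Q} {n : ℤ} (hn : n = 32 ∨ n = 48 ∨ n = 64) (hx : Cls ψ n x) :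
    {y : Q | Cls ψ n y}.ncard *
        Nat.card (Subgroup.centralizer ({(x : Subgroup.centralizer ({z} : Set G))} :
          Set (Subgroup.centralizer ({z} : Set G)))) =
      2 ^ 25 * Nat.card Spor.Co1 := by
  set S := Subgroup.centralizer ({(x : Subgroup.centralizer ({z} : Set G))} :
          Set (Subgroup.centralizer ({z} : Set G))) with hS
  rw [← M.card_C, Subgroup.card_eq_card_quotient_mul_card_subgroup S, ← Nat.card_coe_set_eq]
  congr 1
  symm
  have key : ∀ a b : Subgroup.centralizer ({z} : Set G), cj a x = cj b x ↔ a⁻¹ * b ∈ S := by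
    intro a b
    rw [hS, Subgroup.mem_centralizer_singleton_iff]
    constructor
    · intro h
      have h' : a * x * a⁻¹ = b * (x : Subgroup.centralizer ({z} : Set G)) * b⁻¹ := congrArg Subtype.val h
      calc a⁻¹ * b * x = a⁻¹ * (b * x * b⁻¹) * b := by group
        _ = a⁻¹ * (a * x * a⁻¹) * b := by rw [h']
        _ = x * (a⁻¹ * b) := by group
    · intro h
      apply Subtype.ext
      show a * x * a⁻¹ = b * (x : Subgroup.centralizer ({z} : Set G)) * b⁻¹
      calc a * x * a⁻¹ = a * (x * (a⁻¹ * b)) * b⁻¹ := by group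
        _ = a * (a⁻¹ * b * x) * b⁻¹ := by rw [h]
        _ = _ := by group
  refine Nat.card_congr (Equiv.ofBijective
    (Quotient.lift (fun h : Subgroup.centralizer ({z} : Set G) =>
      (⟨cj h x, M.cls_cj h hx⟩ : {y : Q | Cls ψ n y}))
      fun a b hab => Subtype.ext ((key a b).2 (QuotientGroup.leftRel_apply.1 hab))) ⟨?_, ?_⟩)
  · intro a b hab
    induction a using Quotient.inductionOn with | h a =>
    induction b using Quotient.inductionOn with | h b =>
    exact Quotient.sound (QuotientGroup.leftRel_apply.2 ((key a b).1 (congrArg Subtype.val hab)))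
  · rintro ⟨y, hy⟩
    obtain ⟨h, hh⟩ := M.transitive hn hx hy
    exact ⟨Quotient.mk _ h, Subtype.ext hh⟩

theorem card_proj_cent {x : Q} (hx : x ∉ Subgroup.center Q) :
    Nat.card ((Subgroup.centralizer ({(x : Subgroup.centralizer ({z} : Set G))} :
        Set (Subgroup.centralizer ({z} : Set G)))).map (proj e)) * 2 ^ 24 =
      Nat.card (Subgroup.centralizer ({(x : Subgroup.centralizer ({z} : Set G))} :
        Set (Subgroup.centralizer ({z} : Set G)))) := by
  rw [← M.card_centQ hx, ← card_map_mul_inf_ker (proj e), ker_proj]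
  congr 1
  have h1 : (Subgroup.centralizer ({x} : Set Q)).map Q.subtype =
      Subgroup.centralizer ({(x : Subgroup.centralizer ({z} : Set G))} :
        Set (Subgroup.centralizer ({z} : Set G))) ⊓ Q := by
    ext h
    simp only [Subgroup.mem_map, Subgroup.mem_inf, Subgroup.mem_centralizer_singleton_iff]
    constructor
    · rintro ⟨r, hr, rfl⟩
      exact ⟨congrArg Subtype.val hr, r.2⟩
    · rintro ⟨h1, h2⟩
      exact ⟨⟨h, h2⟩, Subtype.ext h1, rfl⟩
  rw [← h1]
  exact Nat.card_congr (Subgroup.equivMapOfInjective _ _ Q.subtype_injective).toEquiv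

theorem dvd_card_cent {x : Q} (h : Cls ψ 32 x ∨ Cls ψ 64 x) :
    23 ∣ Nat.card (Subgroup.centralizer ({(x : Subgroup.centralizer ({z} : Set G))} :
      Set (Subgroup.centralizer ({z} : Set G)))) := by
  obtain ⟨c32, -, c64⟩ := M.ncard_cls
  rcases h with h | h
  · have := M.card_cent (by norm_num) h
    rw [c32, card_Co1] at this
    omega
  · have := M.card_cent (by norm_num) h
    rw [c64, card_Co1] at this
    omega

/-- What is known about a conjugate `g z g⁻¹` of `z` lying in `Q`. -/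
structure Fused (e : (Subgroup.centralizer ({z} : Set G)) ⧸ Q ≃* Spor.Co1) (ψ : leechLattice → Q ⧸ Subgroup.center Q)
    (x : Q) (g : G) : Prop where
  cls : Cls ψ 64 x
  le : conjPart Q g ≤ Subgroup.centralizer ({(x : Subgroup.centralizer ({z} : Set G))} :
    Set (Subgroup.centralizer ({z} : Set G)))
  normal : ∀ h ∈ Subgroup.centralizer ({(x : Subgroup.centralizer ({z} : Set G))} :
    Set (Subgroup.centralizer ({z} : Set G))), ∀ b ∈ conjPart Q g, h * b * h⁻¹ ∈ conjPart Q g
  comm : ∀ a ∈ (conjPart Q g).map (proj e), ∀ b ∈ (conjPart Q g).map (proj e), a * b = b * a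
  sq : ∀ a ∈ (conjPart Q g).map (proj e), a ^ 2 = 1
  card_image : Nat.card ((conjPart Q g).map (proj e)) = 2 ^ 11
  card_inf : Nat.card (conjPart Q g ⊓ Q : Subgroup (Subgroup.centralizer ({z} : Set G))) = 2 ^ 13

variable {x : Q} {g : G}

theorem zz_eq : z * z = 1 :=
  congrArg (fun q : Q => ((q : Subgroup.centralizer ({z} : Set G)) : G)) M.zQ_sq

theorem not_center_of_conj (hg : g * z * g⁻¹ = ((x : Subgroup.centralizer ({z} : Set G)) : G)) (hne : x ≠ M.zQ) :
    x ∉ Subgroup.center Q ∧ (Cls ψ 32 x ∨ Cls ψ 64 x) := by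
  have hzz := M.zz_eq
  have hx2 : x * x = 1 := by
    apply Subtype.ext; apply Subtype.ext
    show ((x : Subgroup.centralizer ({z} : Set G)) : G) * _ = 1
    rw [← hg, show g * z * g⁻¹ * (g * z * g⁻¹) = g * (z * z) * g⁻¹ by group, hzz]
    group
  have hx1 : x ≠ 1 := fun h => by
    rw [h] at hg
    have h1 : z = 1 := by simpa using hg
    have h2 := M.orderOf_z
    rw [h1, orderOf_one] at h2
    omega
  have hxc : x ∉ Subgroup.center Q := fun h => (M.mem_center_iff.1 h).elim hx1 hne
  have hxcl := M.cls_of_sq hxc hx2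
  exact ⟨hxc, hxcl⟩

omit M in
theorem mem_cent_iff (hg : g * z * g⁻¹ = ((x : Subgroup.centralizer ({z} : Set G)) : G)) (h : Subgroup.centralizer ({z} : Set G)) :
    h ∈ Subgroup.centralizer ({(x : Subgroup.centralizer ({z} : Set G))} :
    Set (Subgroup.centralizer ({z} : Set G))) ↔
      (h : G) * (g * z * g⁻¹) = g * z * g⁻¹ * h := by
  rw [Subgroup.mem_centralizer_singleton_iff, hg]
  exact ⟨congrArg Subtype.val, fun e => Subtype.ext e⟩

theorem exists_back (hg : g * z * g⁻¹ = ((x : Subgroup.centralizer ({z} : Set G)) : G)) (hne : x ≠ M.zQ) :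
    ∃ y : Q, ((y : Subgroup.centralizer ({z} : Set G)) : G) = g⁻¹ * z * g ∧ y ∉ Subgroup.center Q := by
  haveI := finiteCo1
  have hzz := M.zz_eq
  obtain ⟨hxc, hxcl⟩ := M.not_center_of_conj hg hne
  -- the back conjugate
  have hzc : z * (g * z * g⁻¹) = g * z * g⁻¹ * z := by
    rw [hg]; exact (Subgroup.mem_centralizer_singleton_iff.1 (x : Subgroup.centralizer ({z} : Set G)).2).symm
  let y₀ : Subgroup.centralizer ({z} : Set G) := ⟨g⁻¹ * z * g, Subgroup.mem_centralizer_singleton_iff.2 (by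
    calc g⁻¹ * z * g * z = g⁻¹ * (z * (g * z * g⁻¹)) * g := by group
      _ = g⁻¹ * (g * z * g⁻¹ * z) * g := by rw [hzc]
      _ = z * (g⁻¹ * z * g) := by group)⟩
  set L := Subgroup.centralizer ({(x : Subgroup.centralizer ({z} : Set G))} :
    Set (Subgroup.centralizer ({z} : Set G))) with hL
  have hLmem : ∀ h : Subgroup.centralizer ({z} : Set G), h ∈ L ↔ (h : G) * (g * z * g⁻¹) = g * z * g⁻¹ * h :=
    fun h => mem_cent_iff hg h
  have hL'card : Nat.card (Subgroup.centralizer ({y₀} : Set (Subgroup.centralizer ({z} : Set G)))) =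
      Nat.card L := by
    refine Nat.card_congr
      { toFun := fun u => ⟨⟨g * (u : Subgroup.centralizer ({z} : Set G)) * g⁻¹, Subgroup.mem_centralizer_singleton_iff.2 ?_⟩, (hLmem _).2 ?_⟩
        invFun := fun v => ⟨⟨g⁻¹ * (v : Subgroup.centralizer ({z} : Set G)) * g, Subgroup.mem_centralizer_singleton_iff.2 ?_⟩, Subgroup.mem_centralizer_singleton_iff.2 (Subtype.ext ?_)⟩
        left_inv := fun u => Subtype.ext (Subtype.ext ?_)
        right_inv := fun v => Subtype.ext (Subtype.ext ?_) }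
    · have h := congrArg Subtype.val (Subgroup.mem_centralizer_singleton_iff.1 u.2)
      change ((u : Subgroup.centralizer ({z} : Set G)) : G) * (g⁻¹ * z * g) = g⁻¹ * z * g * _ at h
      calc g * ((u : Subgroup.centralizer ({z} : Set G)) : G) * g⁻¹ * z
          = g * (((u : Subgroup.centralizer ({z} : Set G)) : G) * (g⁻¹ * z * g)) * g⁻¹ := by group
        _ = g * (g⁻¹ * z * g * ((u : Subgroup.centralizer ({z} : Set G)) : G)) * g⁻¹ := by rw [h]
        _ = _ := by group
    · have h := Subgroup.mem_centralizer_singleton_iff.1 (u : Subgroup.centralizer ({z} : Set G)).2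
      show g * ((u : Subgroup.centralizer ({z} : Set G)) : G) * g⁻¹ * (g * z * g⁻¹) = _
      calc _ = g * (((u : Subgroup.centralizer ({z} : Set G)) : G) * z) * g⁻¹ := by group
        _ = g * (z * ((u : Subgroup.centralizer ({z} : Set G)) : G)) * g⁻¹ := by rw [h]
        _ = _ := by group
    · have h := (hLmem _).1 v.2
      calc g⁻¹ * ((v : Subgroup.centralizer ({z} : Set G)) : G) * g * z
          = g⁻¹ * (((v : Subgroup.centralizer ({z} : Set G)) : G) * (g * z * g⁻¹)) * g := by group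
        _ = g⁻¹ * (g * z * g⁻¹ * ((v : Subgroup.centralizer ({z} : Set G)) : G)) * g := by rw [h]
        _ = _ := by group
    · have h := Subgroup.mem_centralizer_singleton_iff.1 (v : Subgroup.centralizer ({z} : Set G)).2
      show g⁻¹ * ((v : Subgroup.centralizer ({z} : Set G)) : G) * g * (g⁻¹ * z * g) = g⁻¹ * z * g * _
      calc _ = g⁻¹ * (((v : Subgroup.centralizer ({z} : Set G)) : G) * z) * g := by group
        _ = g⁻¹ * (z * ((v : Subgroup.centralizer ({z} : Set G)) : G)) * g := by rw [h]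
        _ = _ := by group
    · show g⁻¹ * (g * _ * g⁻¹) * g = _; group
    · show g * (g⁻¹ * _ * g) * g⁻¹ = _; group
  have hy0sq : y₀ * y₀ = 1 := Subtype.ext (by
    show g⁻¹ * z * g * (g⁻¹ * z * g) = 1
    rw [show g⁻¹ * z * g * (g⁻¹ * z * g) = g⁻¹ * (z * z) * g by group, hzz]; group)
  have hy0mem : y₀ ∈ Q := by
    obtain ⟨u, hu⟩ := exists_prime_orderOf_dvd_card' 23 (hL'card.symm ▸ M.dvd_card_cent hxcl)
    have huc := Subgroup.mem_centralizer_singleton_iff.1 u.2
    have hord : orderOf (proj e u) = 23 := by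
      refine orderOf_eq_prime (by rw [← map_pow, ← hu]; simp [← SubmonoidClass.coe_pow, pow_orderOf_eq_one]) fun h1 => ?_
      have h3 := Subgroup.orderOf_dvd_natCard Q (proj_eq_one.1 h1)
      rw [Subgroup.orderOf_coe, hu, M.card_Q] at h3
      norm_num at h3
    have h23 := Co1_pow_eq_one_of_commute hord (Y := proj e y₀)
      (by rw [← map_mul, ← map_mul, huc])
    rw [← proj_eq_one (e := e)]
    have h2 : proj e y₀ ^ 2 = 1 := by rw [← map_pow, pow_two, hy0sq, map_one]
    rw [show (23 : ℕ) = 2 * 11 + 1 from rfl, pow_succ, pow_mul, h2, one_pow, one_mul] at h23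
    exact h23
  let y : Q := ⟨y₀, hy0mem⟩
  have hyc : y ∉ Subgroup.center Q := fun h => by
    rcases M.mem_center_iff.1 h with h | h <;>
      have h' := congrArg (fun q : Q => ((q : Subgroup.centralizer ({z} : Set G)) : G)) h
    · change g⁻¹ * z * g = 1 at h'
      have h1 : z = 1 := by
        calc z = g * (g⁻¹ * z * g) * g⁻¹ := by group
          _ = 1 := by rw [h']; group
      have h2 := M.orderOf_z
      rw [h1, orderOf_one] at h2
      omega
    · change g⁻¹ * z * g = z at h'
      refine hne (Subtype.ext (Subtype.ext ?_))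
      rw [← hg]
      show g * z * g⁻¹ = z
      conv_lhs => rw [← h']
      group
  exact ⟨y, rfl, hyc⟩

theorem card_conjPart (hg : g * z * g⁻¹ = ((x : Subgroup.centralizer ({z} : Set G)) : G)) (hne : x ≠ M.zQ) : Nat.card (conjPart Q g) = 2 ^ 24 := by
  obtain ⟨⟨⟨y₀, hy₀⟩, hy0mem⟩, rfl, hyc⟩ := M.exists_back hg hne
  set y : Q := ⟨⟨g⁻¹ * z * g, hy₀⟩, hy0mem⟩
  set B := conjPart Q g with hB
  have hBcard : Nat.card B = 2 ^ 24 := by
    rw [← M.card_centQ hyc]
    symm
    refine Nat.card_congr (Equiv.ofBijective (fun r : Subgroup.centralizer ({y} : Set Q) =>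
      (⟨⟨g * ((r : Q) : Subgroup.centralizer ({z} : Set G)) * g⁻¹, Subgroup.mem_centralizer_singleton_iff.2 ?_⟩,
        mem_conjPart.2 ⟨r, rfl⟩⟩ : B)) ⟨?_, ?_⟩)
    · have h := congrArg (fun q : Q => ((q : Subgroup.centralizer ({z} : Set G)) : G))
        (Subgroup.mem_centralizer_singleton_iff.1 r.2)
      change (((r : Q) : Subgroup.centralizer ({z} : Set G)) : G) * (g⁻¹ * z * g) = g⁻¹ * z * g * _ at h
      calc g * (((r : Q) : Subgroup.centralizer ({z} : Set G)) : G) * g⁻¹ * z
          = g * ((((r : Q) : Subgroup.centralizer ({z} : Set G)) : G) * (g⁻¹ * z * g)) * g⁻¹ := by group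
        _ = g * (g⁻¹ * z * g * (((r : Q) : Subgroup.centralizer ({z} : Set G)) : G)) * g⁻¹ := by rw [h]
        _ = _ := by group
    · intro a b h
      have h' := congrArg (fun u : B => ((u : Subgroup.centralizer ({z} : Set G)) : G)) h
      simpa using h'
    · rintro ⟨h, hh⟩
      obtain ⟨r, hr⟩ := mem_conjPart.1 hh
      refine ⟨⟨r, Subgroup.mem_centralizer_singleton_iff.2 (Subtype.ext (Subtype.ext ?_))⟩,
        Subtype.ext (Subtype.ext hr)⟩
      have hz := Subgroup.mem_centralizer_singleton_iff.1 h.2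
      rw [← hr] at hz
      show ((r : Subgroup.centralizer ({z} : Set G)) : G) * (g⁻¹ * z * g) = g⁻¹ * z * g * _
      calc _ = g⁻¹ * (g * ((r : Subgroup.centralizer ({z} : Set G)) : G) * g⁻¹ * z) * g := by group
        _ = g⁻¹ * (z * (g * ((r : Subgroup.centralizer ({z} : Set G)) : G) * g⁻¹)) * g := by rw [hz]
        _ = _ := by group
  exact hBcard

omit M in
theorem conjPart_le (hg : g * z * g⁻¹ = ((x : Subgroup.centralizer ({z} : Set G)) : G)) :
    conjPart Q g ≤ Subgroup.centralizer ({(x : Subgroup.centralizer ({z} : Set G))} :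
    Set (Subgroup.centralizer ({z} : Set G))) := by
  intro h hh
  obtain ⟨r, hr⟩ := mem_conjPart.1 hh
  rw [mem_cent_iff hg, ← hr]
  have := Subgroup.mem_centralizer_singleton_iff.1 (r : Subgroup.centralizer ({z} : Set G)).2
  calc g * ((r : Subgroup.centralizer ({z} : Set G)) : G) * g⁻¹ * (g * z * g⁻¹)
      = g * (((r : Subgroup.centralizer ({z} : Set G)) : G) * z) * g⁻¹ := by group
    _ = g * (z * ((r : Subgroup.centralizer ({z} : Set G)) : G)) * g⁻¹ := by rw [this]
    _ = _ := by group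

omit M in
theorem conjPart_normal (hg : g * z * g⁻¹ = ((x : Subgroup.centralizer ({z} : Set G)) : G)) :
    ∀ h ∈ Subgroup.centralizer ({(x : Subgroup.centralizer ({z} : Set G))} :
    Set (Subgroup.centralizer ({z} : Set G))), ∀ b ∈ conjPart Q g, h * b * h⁻¹ ∈ conjPart Q g := by
  have hLmem := fun h => mem_cent_iff (Q := Q) hg h
  intro h hh b hb
  obtain ⟨r, hr⟩ := mem_conjPart.1 hb
  have h1 := (hLmem h).1 hh
  let w : Subgroup.centralizer ({z} : Set G) := ⟨g⁻¹ * h * g, Subgroup.mem_centralizer_singleton_iff.2 (by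
    calc g⁻¹ * (h : G) * g * z = g⁻¹ * ((h : G) * (g * z * g⁻¹)) * g := by group
      _ = g⁻¹ * (g * z * g⁻¹ * h) * g := by rw [h1]
      _ = _ := by group)⟩
  refine mem_conjPart.2 ⟨cj w r, ?_⟩
  show g * (g⁻¹ * h * g * ((r : Subgroup.centralizer ({z} : Set G)) : G) * (g⁻¹ * h * g)⁻¹) * g⁻¹ = h * b * (h : G)⁻¹
  rw [← hr]; group

theorem image_elementary (hg : g * z * g⁻¹ = ((x : Subgroup.centralizer ({z} : Set G)) : G)) :
    (∀ a ∈ (conjPart Q g).map (proj e), ∀ b ∈ (conjPart Q g).map (proj e), a * b = b * a) ∧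
    ∀ a ∈ (conjPart Q g).map (proj e), a ^ 2 = 1 := by
  set T := (conjPart Q g).map (proj e) with hT
  have hkey : ∀ r : Q, (r = 1 ∨ r = M.zQ) → ∀ u : Subgroup.centralizer ({z} : Set G),
      (u : G) = g * ((r : Subgroup.centralizer ({z} : Set G)) : G) * g⁻¹ → proj e u = 1 := by
    rintro r (rfl | rfl) u hu
    · rw [show u = 1 from Subtype.ext (by rw [hu]; simp), map_one]
    · rw [show u = (x : Subgroup.centralizer ({z} : Set G)) from Subtype.ext (by rw [hu, ← hg]; rfl)]
      exact proj_eq_one.2 x.2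
  have hcomm : ∀ a ∈ T, ∀ b ∈ T, a * b = b * a := by
    rintro _ ⟨a, ha, rfl⟩ _ ⟨b, hb, rfl⟩
    obtain ⟨r, hr⟩ := mem_conjPart.1 ha
    obtain ⟨r', hr'⟩ := mem_conjPart.1 hb
    have h1 : proj e (a * b * (b * a)⁻¹) = 1 := by
      refine hkey (r * r' * (r' * r)⁻¹) ?_ _ ?_
      · rcases M.qdata.comm r r' with h | h
        · exact Or.inl (by rw [h, mul_inv_cancel])
        · exact Or.inr (by rw [h, M.zQ_central, mul_inv_cancel_right])
      · simp only [Subgroup.coe_mul, InvMemClass.coe_inv, ← hr, ← hr']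
        group
    rw [map_mul, map_inv, mul_inv_eq_one, map_mul, map_mul] at h1
    exact h1
  have hsq : ∀ a ∈ T, a ^ 2 = 1 := by
    rintro _ ⟨a, ha, rfl⟩
    obtain ⟨r, hr⟩ := mem_conjPart.1 ha
    rw [← map_pow]
    refine hkey (r * r) (M.qdata.squares r) _ ?_
    simp only [Subgroup.coe_mul, ← hr, pow_two]
    group
  exact ⟨hcomm, hsq⟩

theorem image_ne_bot (hg : g * z * g⁻¹ = ((x : Subgroup.centralizer ({z} : Set G)) : G)) (hne : x ≠ M.zQ) : (conjPart Q g).map (proj e) ≠ ⊥ := by
  obtain ⟨hxc, hxcl⟩ := M.not_center_of_conj hg hne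
  have hBcard := M.card_conjPart hg hne
  set B := conjPart Q g with hB
  have hle := conjPart_le (Q := Q) hg
  rw [← hB] at hle
  set T := B.map (proj e) with hT
  intro h
  have hBQ : B ≤ Q := fun b hb => proj_eq_one.1 (by
    have : proj e b ∈ T := ⟨b, hb, rfl⟩
    rw [h, Subgroup.mem_bot] at this; exact this)
  set A := Subgroup.centralizer ({x} : Set Q) with hA
  have hBA : ∀ a ∈ A, (a : Subgroup.centralizer ({z} : Set G)) ∈ B := by
    have hsub : B.subgroupOf Q ≤ A := fun b hb => by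
      rw [hA, Subgroup.mem_centralizer_singleton_iff]
      exact Subtype.ext (Subgroup.mem_centralizer_singleton_iff.1 (hle hb))
    have heqA := Subgroup.eq_of_le_of_card_ge hsub (by
      rw [M.card_centQ hxc, Nat.card_congr (Subgroup.subgroupOfEquivOfLe hBQ).toEquiv, hBcard])
    intro a ha
    rw [← heqA] at ha
    exact ha
  have hAcomm : ∀ a ∈ A, ∀ b ∈ A, a * b = b * a := by
    intro a ha b hb
    rcases M.qdata.comm a b with h1 | h1
    · exact h1
    · exfalso
      obtain ⟨r, hr⟩ := mem_conjPart.1 (hBA a ha)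
      obtain ⟨r', hr'⟩ := mem_conjPart.1 (hBA b hb)
      have h3 : a * b * (b * a)⁻¹ = M.zQ := by rw [h1, M.zQ_central, mul_inv_cancel_right]
      have h4 := congrArg (fun q : Q => ((q : Subgroup.centralizer ({z} : Set G)) : G)) h3
      simp only [Subgroup.coe_mul, InvMemClass.coe_inv, ← hr, ← hr'] at h4
      have h5 : g * (((r * r' * (r' * r)⁻¹ : Q) : Subgroup.centralizer ({z} : Set G)) : G) * g⁻¹ = z := by
        refine Eq.trans ?_ h4
        simp only [Subgroup.coe_mul, InvMemClass.coe_inv]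
        group
      have h6 : r * r' * (r' * r)⁻¹ = 1 ∨ r * r' * (r' * r)⁻¹ = M.zQ := by
        rcases M.qdata.comm r r' with h | h
        · exact Or.inl (by rw [h, mul_inv_cancel])
        · exact Or.inr (by rw [h, M.zQ_central, mul_inv_cancel_right])
      rcases h6 with h6 | h6 <;> rw [h6] at h5
      · refine M.zQ_ne_one (Subtype.ext (Subtype.ext ?_))
        show z = 1
        simpa using h5.symm
      · refine hne (Subtype.ext (Subtype.ext ?_))
        exact hg.symm.trans h5
  obtain ⟨q, hq⟩ : ∃ q : Q, q ∉ A := by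
    by_contra hh
    push Not at hh
    exact hxc (Subgroup.mem_center_iff.2 fun q => Subgroup.mem_centralizer_singleton_iff.1 (hA ▸ hh q))
  have hAi : A.index = 2 := by
    have h0 := A.card_mul_index
    rw [M.card_centQ hxc, M.card_Q] at h0
    omega
  have hqi : (Subgroup.centralizer ({q} : Set Q)).index ≤ 2 := by
    by_cases hqc : q ∈ Subgroup.center Q
    · have htop : Subgroup.centralizer ({q} : Set Q) = ⊤ :=
        Subgroup.centralizer_eq_top_iff_subset.2 (by simpa using hqc)
      rw [htop, Subgroup.index_top]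
      norm_num
    · have h0 := (Subgroup.centralizer ({q} : Set Q)).card_mul_index
      rw [M.card_centQ hqc, M.card_Q] at h0
      omega
  have hsubc : A ⊓ Subgroup.centralizer ({q} : Set Q) ≤ Subgroup.center Q := by
    rintro c ⟨hc1, hc2⟩
    refine Subgroup.mem_center_iff.2 fun d => ?_
    have hcq : Commute c q := Subgroup.mem_centralizer_singleton_iff.1 hc2
    by_cases hd : d ∈ A
    · exact hAcomm d hd c hc1
    · have hqd : q⁻¹ * d ∈ A := by
        rw [Subgroup.mul_mem_iff_of_index_two hAi]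
        simp [hq, hd]
      have : Commute c (q * (q⁻¹ * d)) := hcq.mul_right (hAcomm c hc1 _ hqd)
      rw [mul_inv_cancel_left] at this
      exact this.symm.eq
  have h1 := Subgroup.card_le_of_le hsubc
  rw [M.hS.2.2.1.2] at h1
  have h2 := (A ⊓ Subgroup.centralizer ({q} : Set Q)).card_mul_index
  rw [M.card_Q] at h2
  have h3 : (A ⊓ Subgroup.centralizer ({q} : Set Q)).index ≤ 4 := by
    refine Subgroup.index_inf_le.trans ?_
    rw [hAi]; omega
  nlinarith

theorem image_normal (hg : g * z * g⁻¹ = ((x : Subgroup.centralizer ({z} : Set G)) : G)) :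
    ∀ a ∈ (Subgroup.centralizer ({(x : Subgroup.centralizer ({z} : Set G))} :
    Set (Subgroup.centralizer ({z} : Set G)))).map (proj e), ∀ t ∈ (conjPart Q g).map (proj e),
      a * t * a⁻¹ ∈ (conjPart Q g).map (proj e) := by
  rintro _ ⟨a, ha, rfl⟩ _ ⟨b, hb, rfl⟩
  exact ⟨a * b * a⁻¹, conjPart_normal hg a ha b hb, by simp⟩

theorem exists_order23 (hg : g * z * g⁻¹ = ((x : Subgroup.centralizer ({z} : Set G)) : G)) (hne : x ≠ M.zQ) :
    ∃ X ∈ (Subgroup.centralizer ({(x : Subgroup.centralizer ({z} : Set G))} :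
    Set (Subgroup.centralizer ({z} : Set G)))).map (proj e), orderOf X = 23 := by
  haveI := finiteCo1
  obtain ⟨hxc, hxcl⟩ := M.not_center_of_conj hg hne
  have h1 := M.dvd_card_cent hxcl
  rw [← M.card_proj_cent hxc] at h1
  have h2 := ((Nat.Coprime.pow_right 24 (by norm_num : Nat.Coprime 23 2))).dvd_of_dvd_mul_right h1
  obtain ⟨X, hX⟩ := exists_prime_orderOf_dvd_card' 23 h2
  exact ⟨X, X.2, by rw [Subgroup.orderOf_coe, hX]⟩

theorem card_image_eq (hg : g * z * g⁻¹ = ((x : Subgroup.centralizer ({z} : Set G)) : G)) (hne : x ≠ M.zQ) :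
    Nat.card ((conjPart Q g).map (proj e)) = 2 ^ 11 := by
  obtain ⟨X, hXmem, hXo⟩ := M.exists_order23 hg hne
  refine card_of_invariant hXo (fun t ht => M.image_normal hg X hXmem t ht) (M.image_ne_bot hg hne) ?_
  rw [← M.card_conjPart hg hne, ← card_map_mul_inf_ker (proj e) (conjPart Q g)]
  exact dvd_mul_right _ _

theorem cls_64_of_conj (hg : g * z * g⁻¹ = ((x : Subgroup.centralizer ({z} : Set G)) : G)) (hne : x ≠ M.zQ) : Cls ψ 64 x := by
  haveI := finiteCo1
  obtain ⟨hxc, hxcl⟩ := M.not_center_of_conj hg hne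
  obtain ⟨X₀, hXmem, hXo⟩ := M.exists_order23 hg hne
  have hproj_norm := M.image_normal hg
  obtain ⟨hcomm, hsq⟩ := M.image_elementary hg
  have hT1 := M.image_ne_bot hg hne
  have hj := M.card_image_eq hg hne
  set B := conjPart Q g with hB
  set T := B.map (proj e) with hT
  set L := Subgroup.centralizer ({(x : Subgroup.centralizer ({z} : Set G))} :
    Set (Subgroup.centralizer ({z} : Set G))) with hL
  refine hxcl.resolve_left fun h32 => ?_
  set P0 := L.map (proj e) with hP0
  have hP : Nat.card P0 = 42305421312000 := by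
    have h1 := M.card_cent (by norm_num) h32
    rw [← hL, ← M.card_proj_cent hxc, ← hL, ← hP0, M.ncard_cls.1, card_Co1] at h1
    omega
  exact false_of_125 hXmem hXo hproj_norm hcomm hsq hT1 hj (by rw [hP]; norm_num)

theorem fused (hg : g * z * g⁻¹ = ((x : Subgroup.centralizer ({z} : Set G)) : G))
    (hne : x ≠ M.zQ) : Fused e ψ x g := by
  refine ⟨M.cls_64_of_conj hg hne, conjPart_le hg, conjPart_normal hg, (M.image_elementary hg).1,
    (M.image_elementary hg).2, M.card_image_eq hg hne, ?_⟩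
  have h := card_map_mul_inf_ker (proj e) (conjPart Q g)
  rw [M.card_image_eq hg hne, M.card_conjPart hg hne, ker_proj] at h
  omega

omit x g in
theorem ne_zQ_iff (y : Q) : y ≠ M.zQ ↔ ((y : Subgroup.centralizer ({z} : Set G)) : G) ≠ z :=
  not_congr ⟨fun h => congrArg (fun q : Q => ((q : Subgroup.centralizer ({z} : Set G)) : G)) h,
    fun h => Subtype.ext (Subtype.ext h)⟩

omit x g in
/-- The conjugates of `z` in `Q` other than `z` are the elements of class 64. -/
theorem isConj_iff_cls (y : Q) :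
    (IsConj z ((y : Subgroup.centralizer ({z} : Set G)) : G) ∧
      ((y : Subgroup.centralizer ({z} : Set G)) : G) ≠ z) ↔ Cls ψ 64 y := by
  constructor
  · rintro ⟨h1, h2⟩
    obtain ⟨a, ha⟩ := isConj_iff.1 h1
    exact (M.fused ha ((M.ne_zQ_iff y).2 h2)).cls
  · intro hy
    have hne : y ≠ M.zQ := fun h =>
      M.not_mem_center (by norm_num) (by norm_num) hy (M.mem_center_iff.2 (Or.inr h))
    refine ⟨?_, (M.ne_zQ_iff y).1 hne⟩
    obtain ⟨a, ⟨ha, hmem⟩, hane⟩ := M.hS.2.2.2.2
    let y₁ : Q := ⟨⟨a * z * a⁻¹, ha⟩, hmem⟩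
    obtain ⟨h, hh⟩ := M.transitive (by norm_num) (M.fused (x := y₁) rfl ((M.ne_zQ_iff y₁).2 hane)).cls hy
    refine isConj_iff.2 ⟨(h : G) * a, ?_⟩
    have h' : (h : G) * (a * z * a⁻¹) * (h : G)⁻¹ = ((y : Subgroup.centralizer ({z} : Set G)) : G) :=
      congrArg (fun q : Q => ((q : Subgroup.centralizer ({z} : Set G)) : G)) hh
    rw [← h']
    group

end Setting

end Cfsg.Agent.Monster39
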