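import Cfsg.Prelude.Def_MonsterType
import Cfsg.Agent.FGS82.ExtraTwo
import Cfsg.Agent.Lib.Components.GenFitting
import Cfsg.Agent.Monster39.Order23

/-!
The classes of the extraspecial subgroup of a group of Monster type.
-/
set_option autoImplicit false
set_option linter.style.haveILetI false

namespace Cfsg.Agent.Monster39

open Cfsg Cfsg.Agent.FGS82
open scoped Pointwise

open scoped Classical in
/-- The numbers of cosets of each of the three kinds in the lattice modulo its double. -/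
theorem card_classes {W : Type*} [Fintype W] [DecidableEq W] (ψ : Cfsg.leechLattice → W)
    (hsurj : Function.Surjective ψ)
    (heq : ∀ v w : Cfsg.leechLattice, ψ v = ψ w ↔
      Leech.Cong (v : Cfsg.GolayPt → ℤ) (w : Cfsg.GolayPt → ℤ))
    (hW : Fintype.card W = 2 ^ 24) :
    {w : W | ∃ v : Cfsg.leechLattice, Cfsg.sqNorm (v : Cfsg.GolayPt → ℤ) = 32 ∧ ψ v = w}.ncard = 98280 ∧
    {w : W | ∃ v : Cfsg.leechLattice, Cfsg.sqNorm (v : Cfsg.GolayPt → ℤ) = 48 ∧ ψ v = w}.ncard = 8386560 ∧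
    {w : W | ∃ v : Cfsg.leechLattice, Cfsg.sqNorm (v : Cfsg.GolayPt → ℤ) = 64 ∧ ψ v = w}.ncard = 8292375 := by
  let S : ℤ → Finset W := fun n => Finset.univ.filter fun w =>
    ∃ v : Cfsg.leechLattice, Cfsg.sqNorm (v : Cfsg.GolayPt → ℤ) = n ∧ ψ v = w
  have hmem : ∀ {n : ℤ} {w : W}, w ∈ S n ↔
      ∃ v : Cfsg.leechLattice, Cfsg.sqNorm (v : Cfsg.GolayPt → ℤ) = n ∧ ψ v = w := by
    intro n w; simp [S]
  have hdis : ∀ a b : ℤ, a ≤ 64 → b ≤ 64 → a ≠ b → Disjoint (S a) (S b) := by
    intro a b ha hb hab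
    rw [Finset.disjoint_left]
    intro w h1 h2
    obtain ⟨v, hv, rfl⟩ := hmem.1 h1
    obtain ⟨u, hu, e⟩ := hmem.1 h2
    exact hab (hv ▸ hu ▸ Leech.sqNorm_eq_of_cong Leech.noRoots v.2 (hv.le.trans ha) (hu.le.trans hb)
      ((heq v u).1 e.symm))
  have hcover : S 0 ∪ S 32 ∪ S 48 ∪ S 64 = Finset.univ := by
    refine Finset.eq_univ_of_forall fun w => ?_
    obtain ⟨v, rfl⟩ := hsurj w
    obtain ⟨y, hy, hle, hc⟩ := Leech.exists_short_rep v.2
    have hmem' : ψ v ∈ S (Cfsg.sqNorm y) := hmem.2 ⟨⟨y, hy⟩, rfl, ((heq v ⟨y, hy⟩).2 hc).symm⟩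
    obtain ⟨j, hj⟩ := Leech.sixteen_dvd_sqNorm hy
    have hnn := Leech.sqNorm_nonneg y
    have hcases : j = 0 ∨ j = 1 ∨ j = 2 ∨ j = 3 ∨ j = 4 := by omega
    simp only [Finset.mem_union]
    rcases hcases with rfl | rfl | rfl | rfl | rfl <;> rw [hj] at hmem'
    · exact Or.inl (Or.inl (Or.inl (by simpa using hmem')))
    · exfalso
      have hy0 : y ≠ 0 := fun e => by rw [Leech.sqNorm_eq_zero.2 e] at hj; omega
      have := Leech.noRoots y hy hy0
      omega
    · exact Or.inl (Or.inl (Or.inr (by simpa using hmem')))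
    · exact Or.inl (Or.inr (by simpa using hmem'))
    · exact Or.inr (by simpa using hmem')
  have hle : ∀ (n : ℤ) (k : ℕ) (T : Finset (Cfsg.GolayPt → ℤ)),
      (∀ x ∈ T, x ∈ Cfsg.leechLattice ∧ Cfsg.sqNorm x = n) →
      (∀ F : Finset (Cfsg.GolayPt → ℤ), (∀ x ∈ F, x ∈ Cfsg.leechLattice ∧ Cfsg.sqNorm x = n) →
        (∀ x ∈ F, ∀ y ∈ F, Leech.Cong x y) → F.card ≤ k) → T.card ≤ k * (S n).card := by
    intro n k T hT hk
    let q : (Cfsg.GolayPt → ℤ) → W := fun x => if h : x ∈ Cfsg.leechLattice then ψ ⟨x, h⟩ else ψ 0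
    refine (Finset.card_le_mul_card_image (f := q) T k fun b _ => ?_).trans
      (Nat.mul_le_mul_left k (Finset.card_le_card ?_))
    · refine hk _ (fun x hx => hT x (Finset.mem_filter.1 hx).1) fun x hx y hy => ?_
      rw [Finset.mem_filter] at hx hy
      have e := hx.2.trans hy.2.symm
      simp only [q, dif_pos (hT x hx.1).1, dif_pos (hT y hy.1).1] at e
      exact (heq _ _).1 e
    · intro w hw
      obtain ⟨x, hx, rfl⟩ := Finset.mem_image.1 hw
      exact hmem.2 ⟨⟨x, (hT x hx).1⟩, (hT x hx).2, by simp only [q, dif_pos (hT x hx).1]⟩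
  have hfin : ∀ n : ℤ, n ≤ 64 →
      {x | x ∈ Cfsg.leechLattice ∧ Cfsg.sqNorm x = n}.Finite := by
    intro n hn
    refine Set.Finite.subset
      (Fintype.piFinset fun _ : Cfsg.GolayPt => Finset.Icc (-8 : ℤ) 8).finite_toSet fun x hx => ?_
    simp only [Finset.mem_coe, Fintype.mem_piFinset, Finset.mem_Icc]
    intro i
    have h : x i ^ 2 ≤ Cfsg.sqNorm x :=
      Finset.single_le_sum (f := fun j => x j ^ 2) (fun j _ => sq_nonneg (x j)) (Finset.mem_univ i)
    have := hx.2
    constructor <;> nlinarith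
  have h2 : 196560 ≤ 2 * (S 32).card := by
    have h := hle 32 2 (hfin 32 (by norm_num)).toFinset (fun x hx => by simpa using hx)
      (fun F hF hc => Leech.card_le_two_of_cong Leech.noRoots (by norm_num) hF hc)
    rwa [← Set.ncard_eq_toFinset_card _ (hfin 32 (by norm_num)), Leech.card_shell_32] at h
  have h3 : 16773120 ≤ 2 * (S 48).card := by
    have h := hle 48 2 (hfin 48 (by norm_num)).toFinset (fun x hx => by simpa using hx)
      (fun F hF hc => Leech.card_le_two_of_cong Leech.noRoots (by norm_num) hF hc)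
    rwa [← Set.ncard_eq_toFinset_card _ (hfin 48 (by norm_num)), Leech.card_shell_48] at h
  have h4 : 398034000 ≤ 48 * (S 64).card := by
    have h := hle 64 48 (hfin 64 (by norm_num)).toFinset (fun x hx => by simpa using hx)
      (fun F hF hc => Leech.card_le_48_of_cong Leech.noRoots hF hc)
    rwa [← Set.ncard_eq_toFinset_card _ (hfin 64 (by norm_num)), Leech.card_shell_64] at h
  have h1 : 1 ≤ (S 0).card :=
    Finset.card_pos.2 ⟨ψ 0, hmem.2 ⟨0, by simp [Cfsg.sqNorm], rfl⟩⟩
  have d1 : Disjoint (S 0) (S 32) := hdis 0 32 (by norm_num) (by norm_num) (by norm_num)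
  have d2 : Disjoint (S 0 ∪ S 32) (S 48) := Finset.disjoint_union_left.2
    ⟨hdis 0 48 (by norm_num) (by norm_num) (by norm_num),
      hdis 32 48 (by norm_num) (by norm_num) (by norm_num)⟩
  have d3 : Disjoint (S 0 ∪ S 32 ∪ S 48) (S 64) := Finset.disjoint_union_left.2
    ⟨Finset.disjoint_union_left.2 ⟨hdis 0 64 (by norm_num) (by norm_num) (by norm_num),
      hdis 32 64 (by norm_num) (by norm_num) (by norm_num)⟩,
      hdis 48 64 (by norm_num) (by norm_num) (by norm_num)⟩
  have htot := congrArg Finset.card hcover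
  rw [Finset.card_univ, hW, Finset.card_union_of_disjoint d3, Finset.card_union_of_disjoint d2,
    Finset.card_union_of_disjoint d1] at htot
  have c0 : (S 0).card = 1 := by omega
  have c2 : (S 32).card = 98280 := by omega
  have c3 : (S 48).card = 8386560 := by omega
  have c4 : (S 64).card = 8292375 := by omega
  have hset : ∀ n : ℤ, {w : W | ∃ v : Cfsg.leechLattice,
      Cfsg.sqNorm (v : Cfsg.GolayPt → ℤ) = n ∧ ψ v = w}.ncard = (S n).card := fun n => by
    rw [← Set.ncard_coe_finset]; congr 1; ext w; simp [S]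
  exact ⟨(hset 32).trans c2, (hset 48).trans c3, (hset 64).trans c4⟩

/-- The hypotheses of Monster type with the identification named. -/
structure Setting {G : Type*} [Group G] (z : G) (Q : Subgroup (Subgroup.centralizer ({z} : Set G)))
    [Q.Normal] (e : (Subgroup.centralizer ({z} : Set G)) ⧸ Q ≃* Spor.Co1)
    (ψ : leechLattice → Q ⧸ Subgroup.center Q) : Prop where
  hS : IsExtraspecialCentralizerSetting z Q 12
  hψ : IsLeechModTwoIso Q e ψ

set_option linter.unusedSectionVars false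

variable {G : Type*} [Group G] [Finite G] {z : G}
  {Q : Subgroup (Subgroup.centralizer ({z} : Set G))} [Q.Normal]
  {e : (Subgroup.centralizer ({z} : Set G)) ⧸ Q ≃* Spor.Co1}
  {ψ : leechLattice → Q ⧸ Subgroup.center Q}

/-- The point `z` as an element of its centralizer. -/
def zC (z : G) : Subgroup.centralizer ({z} : Set G) :=
  ⟨z, Subgroup.mem_centralizer_singleton_iff.2 rfl⟩

theorem zC_comm (h : Subgroup.centralizer ({z} : Set G)) : h * zC z = zC z * h :=
  Subtype.ext (Subgroup.mem_centralizer_singleton_iff.1 h.2)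

/-- The projection onto the Conway group. -/
noncomputable def proj (e : (Subgroup.centralizer ({z} : Set G)) ⧸ Q ≃* Spor.Co1) :
    Subgroup.centralizer ({z} : Set G) →* Spor.Co1 :=
  e.toMonoidHom.comp (QuotientGroup.mk' Q)

omit [Finite G] in
theorem proj_surjective (e : (Subgroup.centralizer ({z} : Set G)) ⧸ Q ≃* Spor.Co1) :
    Function.Surjective (proj e) :=
  e.surjective.comp (QuotientGroup.mk'_surjective Q)

omit [Finite G] in
theorem proj_eq_one {e : (Subgroup.centralizer ({z} : Set G)) ⧸ Q ≃* Spor.Co1}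
    {h : Subgroup.centralizer ({z} : Set G)} : proj e h = 1 ↔ h ∈ Q := by
  simp [proj]

omit [Finite G] in
theorem ker_proj (e : (Subgroup.centralizer ({z} : Set G)) ⧸ Q ≃* Spor.Co1) :
    (proj e).ker = Q := Subgroup.ext fun _ => MonoidHom.mem_ker.trans proj_eq_one

/-- The class of an element of `Q`: the squared length of a lattice vector over its coset. -/
def Cls (ψ : leechLattice → Q ⧸ Subgroup.center Q) (n : ℤ) (x : Q) : Prop :=
  ∃ v : leechLattice, sqNorm (v : GolayPt → ℤ) = n ∧ ψ v = QuotientGroup.mk x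

/-- The conjugate in `Q` of an element of `Q`. -/
def cj (h : Subgroup.centralizer ({z} : Set G)) (x : Q) : Q :=
  ⟨h * x * h⁻¹, (inferInstance : Q.Normal).conj_mem _ x.2 h⟩

namespace Setting

variable (M : Setting z Q e ψ)
include M

theorem orderOf_z : orderOf z = 2 := M.hS.1

theorem card_Q : Nat.card Q = 2 ^ 25 := M.hS.2.2.2.1

theorem zC_mem : zC z ∈ Q := by
  have h := Components.centralizer_generalizedFitting_le (G := Subgroup.centralizer ({z} : Set G))
  rw [M.hS.2.1] at h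
  refine h (Subgroup.mem_centralizer_iff.2 fun g _ => ?_)
  exact zC_comm g

/-- The point `z` as an element of `Q`. -/
def zQ : Q := ⟨zC z, M.zC_mem⟩

theorem zQ_central (q : Q) : q * M.zQ = M.zQ * q := Subtype.ext (zC_comm _)

theorem zQ_ne_one : M.zQ ≠ 1 := fun h => by
  have h1 : z = 1 := congrArg (fun q : Q => ((q : Subgroup.centralizer ({z} : Set G)) : G)) h
  have h2 := M.orderOf_z
  rw [h1, orderOf_one] at h2
  omega

theorem zQ_sq : M.zQ * M.zQ = 1 := by
  apply Subtype.ext; apply Subtype.ext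
  show z * z = 1
  have := pow_orderOf_eq_one z
  rwa [M.orderOf_z, pow_two] at this

theorem mem_center_iff {q : Q} : q ∈ Subgroup.center Q ↔ q = 1 ∨ q = M.zQ := by
  constructor
  · intro hq
    by_contra h
    push Not at h
    have hsub : ({1, M.zQ, q} : Set Q) ⊆ (Subgroup.center Q : Set Q) := by
      rintro x (rfl | rfl | rfl)
      · exact one_mem _
      · exact Subgroup.mem_center_iff.2 fun g => M.zQ_central g
      · exact hq
    have h3 := Set.ncard_le_ncard hsub (Set.toFinite _)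
    rw [← Nat.card_coe_set_eq (Subgroup.center Q : Set Q)] at h3
    have hc : Nat.card (Subgroup.center Q : Set Q) = 2 := M.hS.2.2.1.2
    rw [hc, Set.ncard_insert_of_notMem (by simp [M.zQ_ne_one.symm, h.1.symm]) (Set.toFinite _),
      Set.ncard_pair h.2.symm] at h3
    omega
  · rintro (rfl | rfl)
    · exact one_mem _
    · exact Subgroup.mem_center_iff.2 fun g => M.zQ_central g

theorem qdata : QData Q M.zQ := by
  obtain ⟨c, D⟩ := exists_qdata M.hS.2.2.1
  have hc : c ∈ Subgroup.center Q := Subgroup.mem_center_iff.2 fun g => D.cen g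
  rcases M.mem_center_iff.1 hc with rfl | rfl
  · exact absurd rfl D.ne
  · exact D

theorem mk_eq_mk {x y : Q} :
    (QuotientGroup.mk x : Q ⧸ Subgroup.center Q) = QuotientGroup.mk y ↔ y = x ∨ y = x * M.zQ := by
  rw [QuotientGroup.eq, M.mem_center_iff, inv_mul_eq_one, inv_mul_eq_iff_eq_mul]
  exact or_congr eq_comm Iff.rfl

theorem exists_flip {x : Q} (hx : x ∉ Subgroup.center Q) : ∃ q : Q, cj (q : Subgroup.centralizer ({z} : Set G)) x = x * M.zQ := by
  obtain ⟨q, hq⟩ : ∃ q : Q, q * x ≠ x * q := by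
    simpa [Subgroup.mem_center_iff] using hx
  refine ⟨q, Subtype.ext ?_⟩
  have h := M.qdata.commute_or hq
  show ((q * x * q⁻¹ : Q) : Subgroup.centralizer ({z} : Set G)) = _
  rw [h, mul_assoc x q, M.zQ_central q, ← mul_assoc, mul_inv_cancel_right]

theorem map_zero : ψ 0 = 1 := (M.hψ.2.2.1 0).2 ⟨0, by simp⟩

theorem map_eq_iff (v w : leechLattice) :
    ψ v = ψ w ↔ Leech.Cong (v : GolayPt → ℤ) (w : GolayPt → ℤ) := by
  obtain ⟨hadd, -, hker, -⟩ := M.hψ
  have hsub : ψ (v - w) = ψ v * (ψ w)⁻¹ := by rw [eq_mul_inv_iff_mul_eq, ← hadd, sub_add_cancel]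
  rw [← mul_inv_eq_one, ← hsub, hker]
  constructor
  · rintro ⟨u, hu⟩
    refine ⟨u, u.2, ?_⟩
    rw [two_nsmul]
    exact congrArg Subtype.val hu
  · rintro ⟨u, hu, hu'⟩
    exact ⟨⟨u, hu⟩, Subtype.ext (by rw [two_nsmul] at hu'; exact hu')⟩

theorem card_quot : Nat.card (Q ⧸ Subgroup.center Q) = 2 ^ 24 := by
  have h := Subgroup.card_eq_card_quotient_mul_card_subgroup (Subgroup.center Q)
  rw [M.card_Q, M.hS.2.2.1.2] at h
  omega

theorem ncard_cls :
    {x : Q | Cls ψ 32 x}.ncard = 2 * 98280 ∧ {x : Q | Cls ψ 48 x}.ncard = 2 * 8386560 ∧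
      {x : Q | Cls ψ 64 x}.ncard = 2 * 8292375 := by
  classical
  haveI := Fintype.ofFinite (Q ⧸ Subgroup.center Q)
  have h := card_classes ψ M.hψ.2.1 M.map_eq_iff (by rw [← Nat.card_eq_fintype_card]; exact M.card_quot)
  have hpre : ∀ n : ℤ, {x : Q | Cls ψ n x}.ncard =
      2 * {w : Q ⧸ Subgroup.center Q | ∃ v : leechLattice, sqNorm (v : GolayPt → ℤ) = n ∧ ψ v = w}.ncard := by
    intro n
    rw [← Nat.card_coe_set_eq, ← Nat.card_coe_set_eq,
      show 2 = Nat.card (Subgroup.center Q) from M.hS.2.2.1.2.symm, ← Nat.card_prod]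
    exact Nat.card_congr (QuotientGroup.preimageMkEquivSubgroupProdSet (Subgroup.center Q)
      {w : Q ⧸ Subgroup.center Q | ∃ v : leechLattice, sqNorm (v : GolayPt → ℤ) = n ∧ ψ v = w})
  exact ⟨(hpre 32).trans (by rw [h.1]), (hpre 48).trans (by rw [h.2.1]), (hpre 64).trans (by rw [h.2.2])⟩

theorem cls_unique {x : Q} {a b : ℤ} (ha : a ≤ 64) (hb : b ≤ 64) (h1 : Cls ψ a x) (h2 : Cls ψ b x) :
    a = b := by
  obtain ⟨v, hv, e1⟩ := h1
  obtain ⟨w, hw, e2⟩ := h2
  rw [← hv, ← hw]
  exact Leech.sqNorm_eq_of_cong Leech.noRoots v.2 (by rw [hv]; exact ha) (by rw [hw]; exact hb)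
    ((M.map_eq_iff v w).1 (e1.trans e2.symm))

theorem cls_zero_iff {x : Q} : Cls ψ 0 x ↔ x ∈ Subgroup.center Q := by
  rw [← QuotientGroup.eq_one_iff]
  constructor
  · rintro ⟨v, hv, e⟩
    rw [Leech.sqNorm_eq_zero] at hv
    have h : v = 0 := Subtype.ext hv
    rw [← e, h, M.map_zero]
  · exact fun h => ⟨0, by simp [sqNorm], by rw [M.map_zero, h]⟩

theorem not_mem_center {x : Q} {n : ℤ} (hn : n ≠ 0) (h64 : n ≤ 64) (h : Cls ψ n x) :
    x ∉ Subgroup.center Q :=
  fun hc => hn (M.cls_unique h64 (by norm_num) h (M.cls_zero_iff.2 hc))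

theorem cls_cases {x : Q} (hx : x ∉ Subgroup.center Q) : Cls ψ 32 x ∨ Cls ψ 48 x ∨ Cls ψ 64 x := by
  obtain ⟨v, hv⟩ := M.hψ.2.1 (QuotientGroup.mk x)
  obtain ⟨y, hy, hle, hc⟩ := Leech.exists_short_rep v.2
  have hyx : ψ ⟨y, hy⟩ = QuotientGroup.mk x := hv ▸ ((M.map_eq_iff v ⟨y, hy⟩).2 hc).symm
  obtain ⟨j, hj⟩ := Leech.sixteen_dvd_sqNorm hy
  have hnn := Leech.sqNorm_nonneg y
  have hcases : j = 0 ∨ j = 1 ∨ j = 2 ∨ j = 3 ∨ j = 4 := by omega
  rcases hcases with rfl | rfl | rfl | rfl | rfl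
  · exact absurd (M.cls_zero_iff.1 ⟨_, by simpa using hj, hyx⟩) hx
  · exfalso
    have hy0 : y ≠ 0 := fun e0 => by rw [Leech.sqNorm_eq_zero.2 e0] at hj; omega
    have := Leech.noRoots y hy hy0
    omega
  · exact Or.inl ⟨_, by simpa using hj, hyx⟩
  · exact Or.inr (Or.inl ⟨_, by simpa using hj, hyx⟩)
  · exact Or.inr (Or.inr ⟨_, by simpa using hj, hyx⟩)

theorem cls_cj {x : Q} {n : ℤ} (h : Subgroup.centralizer ({z} : Set G)) (hx : Cls ψ n x) :
    Cls ψ n (cj h x) := by
  obtain ⟨v, hv, e1⟩ := hx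
  obtain ⟨g, hg⟩ := QuotientGroup.mk_surjective (e (QuotientGroup.mk h))
  exact ⟨g • v, (Leech.sqNorm_smul g v).trans hv, M.hψ.2.2.2 h g hg v x e1⟩

theorem conj_of_smul {x y : Q} (hx : x ∉ Subgroup.center Q) {g : Co0} {v : leechLattice}
    (hv : ψ v = QuotientGroup.mk x) (hgv : ψ (g • v) = QuotientGroup.mk y) :
    ∃ h : Subgroup.centralizer ({z} : Set G), proj e h = QuotientGroup.mk g ∧ cj h x = y := by
  obtain ⟨h, hh⟩ := proj_surjective e (QuotientGroup.mk g)
  have h1 : ψ (g • v) = QuotientGroup.mk (cj h x) := M.hψ.2.2.2 h g hh.symm v x hv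
  rw [hgv] at h1
  rcases M.mk_eq_mk.1 h1.symm with h2 | h2
  · exact ⟨h, hh, h2.symm⟩
  · obtain ⟨q, hq⟩ := M.exists_flip hx
    refine ⟨h * q, ?_, ?_⟩
    · rw [map_mul, hh, proj_eq_one.2 q.2, mul_one]
    · rw [h2]
      apply Subtype.ext
      have hq' : (q : Subgroup.centralizer ({z} : Set G)) * x * (q : Subgroup.centralizer ({z} : Set G))⁻¹ =
          x * zC z := congrArg Subtype.val hq
      show h * q * x * (h * q)⁻¹ = h * x * h⁻¹ * zC z
      rw [show h * q * x * (h * q : Subgroup.centralizer ({z} : Set G))⁻¹ = h * (q * x * (q : Subgroup.centralizer ({z} : Set G))⁻¹) * h⁻¹ by group,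
        hq']
      calc h * ((x : Subgroup.centralizer ({z} : Set G)) * zC z) * h⁻¹ = h * x * (zC z * h⁻¹) := by group
        _ = h * x * (h⁻¹ * zC z) := by rw [zC_comm]
        _ = _ := by group

theorem transitive {n : ℤ} (hn : n = 32 ∨ n = 48 ∨ n = 64) {x y : Q} (hx : Cls ψ n x)
    (hy : Cls ψ n y) : ∃ h : Subgroup.centralizer ({z} : Set G), cj h x = y := by
  have hxc : x ∉ Subgroup.center Q := by
    rcases hn with rfl | rfl | rfl <;> exact M.not_mem_center (by norm_num) (by norm_num) hx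
  obtain ⟨v, hv, e1⟩ := hx
  obtain ⟨w, hw, e2⟩ := hy
  obtain ⟨g, rfl⟩ : ∃ g : Co0, g • v = w := by
    rcases hn with rfl | rfl | rfl
    · exact Leech.transitive_32 Leech.codeUnique hv hw
    · exact Leech.transitive_48 Leech.codeUnique hv hw
    · exact Leech.transitive_64 Leech.codeUnique hv hw
  obtain ⟨h, -, hh⟩ := M.conj_of_smul hxc e1 e2
  exact ⟨h, hh⟩

/-- An involution of `Q` outside the centre has class 32 or 64. -/
theorem cls_of_sq {x : Q} (hx : x ∉ Subgroup.center Q) (h2 : x * x = 1) :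
    Cls ψ 32 x ∨ Cls ψ 64 x := by
  rcases M.cls_cases hx with h | h48 | h
  · exact Or.inl h
  · exfalso
    obtain ⟨m, hm, hns⟩ := counts (Nat.card Q) M.qdata le_rfl
    obtain rfl : m = 12 := by
      have := Nat.pow_right_injective (le_refl 2) (M.card_Q.symm.trans hm)
      omega
    have hsq : ∀ (n : ℤ), n = 32 ∨ n = 48 ∨ n = 64 → (∃ a : Q, Cls ψ n a ∧ a * a = 1) →
        ∀ b : Q, Cls ψ n b → b * b = 1 := by
      rintro n hn ⟨a, ha, ha2⟩ b hb
      obtain ⟨h, rfl⟩ := M.transitive hn ha hb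
      apply Subtype.ext
      have ha' : (a : Subgroup.centralizer ({z} : Set G)) * a = 1 := congrArg Subtype.val ha2
      show h * a * h⁻¹ * (h * a * h⁻¹) = 1
      calc _ = h * ((a : Subgroup.centralizer ({z} : Set G)) * a) * h⁻¹ := by group
        _ = 1 := by rw [ha']; group
    obtain ⟨c32, c48, c64⟩ := M.ncard_cls
    have hall48 := hsq 48 (by norm_num) ⟨x, h48, h2⟩
    have hlow : {a : Q | Cls ψ 48 a} ∪ {1, M.zQ} ⊆ {a : Q | a * a = 1} := by
      rintro a (ha | rfl | rfl)
      · exact hall48 a ha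
      · exact mul_one 1
      · exact M.zQ_sq
    have hcard : nsq Q = {a : Q | a * a = 1}.ncard := by rw [nsq, ← Nat.card_coe_set_eq]; rfl
    have hd : ∀ (n : ℤ), n ≠ 0 → n ≤ 64 → Disjoint {a : Q | Cls ψ n a} {1, M.zQ} := by
      intro n hn h64
      rw [Set.disjoint_left]
      intro a ha hb
      exact M.not_mem_center hn h64 ha (M.mem_center_iff.2 hb)
    have hbound : ∀ n : ℤ, n = 32 ∨ n = 64 → (∃ a : Q, Cls ψ n a ∧ a * a = 1) →
        {a : Q | Cls ψ 48 a}.ncard + {a : Q | Cls ψ n a}.ncard + 2 ≤ nsq Q := by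
      intro n hn hex
      have hall := hsq n (by omega) hex
      rw [hcard, ← Set.ncard_union_eq (Set.disjoint_left.2 fun a ha hb => by
          have := M.cls_unique (by norm_num) (by omega) ha hb; omega) (Set.toFinite _) (Set.toFinite _),
        ← Set.ncard_pair (M.zQ_ne_one.symm),
        ← Set.ncard_union_eq (Set.disjoint_union_left.2 ⟨hd 48 (by norm_num) (by norm_num),
          hd n (by omega) (by omega)⟩) (Set.toFinite _) (Set.toFinite _)]
      refine Set.ncard_le_ncard ?_ (Set.toFinite _)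
      rintro a ((ha | ha) | rfl | rfl)
      · exact hall48 a ha
      · exact hall a ha
      · exact mul_one 1
      · exact M.zQ_sq
    have hn1 : ¬ ∃ a : Q, Cls ψ 32 a ∧ a * a = 1 := fun h => by
      have := hbound 32 (by norm_num) h
      rw [c48, c32] at this
      rcases hns with hns | hns <;> norm_num at hns <;> omega
    have hn2 : ¬ ∃ a : Q, Cls ψ 64 a ∧ a * a = 1 := fun h => by
      have := hbound 64 (by norm_num) h
      rw [c48, c64] at this
      rcases hns with hns | hns <;> norm_num at hns <;> omega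
    have heqset : {a : Q | a * a = 1} = {a : Q | Cls ψ 48 a} ∪ {1, M.zQ} := by
      refine Set.Subset.antisymm (fun a ha => ?_) hlow
      by_cases hac : a ∈ Subgroup.center Q
      · exact Or.inr (M.mem_center_iff.1 hac)
      · rcases M.cls_cases hac with h | h | h
        · exact absurd ⟨a, h, ha⟩ hn1
        · exact Or.inl h
        · exact absurd ⟨a, h, ha⟩ hn2
    rw [heqset, Set.ncard_union_eq (hd 48 (by norm_num) (by norm_num)) (Set.toFinite _) (Set.toFinite _),
      Set.ncard_pair (M.zQ_ne_one.symm), c48] at hcard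
    rcases hns with hns | hns <;> norm_num at hns <;> omega
  · exact Or.inr h

end Setting

end Cfsg.Agent.Monster39
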